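import Cfsg.Agent.Helper18.Aut.Level1

/-!
Helper18: abstract lemmas for the automorphisms of the twisted groups with a rank one root group of
Suzuki type (`²F₄`): the rank one cell lemma (coset counting instead of explicit rank one relations),
rigidity, the action of the Weyl group on the torus under an automorphism, and the torus character lemma.
-/

set_option autoImplicit false

namespace Cfsg.Agent.Helper18.TwF4

open Cfsg Cfsg.Agent.Helper6 Cfsg.Agent.Helper18.Aut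

section RankOne

variable {G : Type*} [Group G]

/-- the rank one situation: `B ∩ V = 1`, `U ⊴ B`, `Xp ≤ U`, `Xm ≤ V`, `s Xp s⁻¹ = Xm = s⁻¹ Xp s`, and every nontrivial
element of `Xm` lies in `B s Xp`. -/
structure RankOne (B V U Xp Xm : Subgroup G) (s : G) : Prop where
  hBV : B ⊓ V = ⊥
  hUB : U ≤ B
  hUn : ∀ b ∈ B, ∀ u ∈ U, b * u * b⁻¹ ∈ U
  hXpU : Xp ≤ U
  hXmV : Xm ≤ V
  h1 : ∀ x ∈ Xp, s * x * s⁻¹ ∈ Xm
  h1' : ∀ y ∈ Xm, s⁻¹ * y * s ∈ Xp
  h2 : ∀ x ∈ Xp, s⁻¹ * x * s ∈ Xm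
  hcell : ∀ y ∈ Xm, y ≠ 1 → ∃ b ∈ B, ∃ x ∈ Xp, y = b * s * x
  hne : ∃ y ∈ Xm, y ≠ 1
  hfin : Finite Xp

variable {B V U Xp Xm : Subgroup G} {s : G}

/-- uniqueness of the `Xp`-part of an element of `B s Xp` -/
theorem RankOne.cell_unique (R : RankOne B V U Xp Xm s) {b b' x x' : G} (hb : b ∈ B) (hb' : b' ∈ B)
    (hx : x ∈ Xp) (hx' : x' ∈ Xp) (e : b * s * x = b' * s * x') : x = x' := by
  have h1 : s * (x * x'⁻¹) * s⁻¹ = b⁻¹ * b' := by
    have : s * (x * x'⁻¹) * s⁻¹ = b⁻¹ * (b * s * x) * x'⁻¹ * s⁻¹ := by group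
    rw [this, e]; group
  have h2 : s * (x * x'⁻¹) * s⁻¹ ∈ B ⊓ V := by
    refine Subgroup.mem_inf.mpr ⟨?_, R.hXmV (R.h1 _ (Xp.mul_mem hx (Xp.inv_mem hx')))⟩
    rw [h1]; exact B.mul_mem (B.inv_mem hb) hb'
  rw [R.hBV, Subgroup.mem_bot] at h2
  have h3 : x * x'⁻¹ = s⁻¹ * (s * (x * x'⁻¹) * s⁻¹) * s := by group
  rw [h2] at h3
  have h4 : x * x'⁻¹ = 1 := by rw [h3]; group
  exact mul_inv_eq_one.mp h4

/-- `Xp` is not trivial -/
theorem RankOne.exists_ne (R : RankOne B V U Xp Xm s) : ∃ x ∈ Xp, x ≠ 1 := by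
  obtain ⟨y, hy, hy1⟩ := R.hne
  refine ⟨s⁻¹ * y * s, R.h1' y hy, ?_⟩
  intro h
  apply hy1
  have : y = s * (s⁻¹ * y * s) * s⁻¹ := by group
  rw [this, h]; group

/-- in `y = b s x` with `y ∈ Xm` nontrivial, `x` is not trivial -/
theorem RankOne.cell_ne_one (R : RankOne B V U Xp Xm s) {y b : G} (hy : y ∈ Xm) (hb : b ∈ B)
    (e : y = b * s) : False := by
  obtain ⟨x', hx', hx'1⟩ := R.exists_ne
  -- `s⁻¹ = y⁻¹ b`
  have hs : s⁻¹ = y⁻¹ * b := by rw [e]; group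
  have h1 : s⁻¹ * x' * s ∈ Xm := R.h2 x' hx'
  have h2 : b * x' * b⁻¹ ∈ Xm := by
    have : b * x' * b⁻¹ = y * (s⁻¹ * x' * s) * y⁻¹ := by
      have hs' : s = b⁻¹ * y := by rw [e]; group
      rw [hs, hs']; group
    rw [this]
    exact Xm.mul_mem (Xm.mul_mem hy h1) (Xm.inv_mem hy)
  have h3 : b * x' * b⁻¹ ∈ B ⊓ V :=
    Subgroup.mem_inf.mpr ⟨R.hUB (R.hUn b hb x' (R.hXpU hx')), R.hXmV h2⟩
  rw [R.hBV, Subgroup.mem_bot] at h3
  apply hx'1
  have : x' = b⁻¹ * (b * x' * b⁻¹) * b := by group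
  rw [this, h3]; group

/-- the cell map `Xm \ 1 → Xp \ 1` is surjective (counting) -/
theorem RankOne.cell_surj (R : RankOne B V U Xp Xm s) (x : G) (hx : x ∈ Xp) (hx1 : x ≠ 1) :
    ∃ y ∈ Xm, y ≠ 1 ∧ ∃ b ∈ B, y = b * s * x := by
  have := R.hfin
  classical
  -- the cell map
  have hex : ∀ y : {y : G // y ∈ Xm ∧ y ≠ 1}, ∃ x : {x : G // x ∈ Xp ∧ x ≠ 1}, ∃ b ∈ B, y.1 = b * s * x.1 := by
    rintro ⟨y, hy, hy1⟩
    obtain ⟨b, hb, x, hx, e⟩ := R.hcell y hy hy1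
    refine ⟨⟨x, hx, ?_⟩, b, hb, e⟩
    rintro rfl
    exact R.cell_ne_one hy hb (by rw [e, mul_one])
  choose f hf using hex
  have hinj : Function.Injective f := by
    intro y y' hyy
    obtain ⟨b, hb, e⟩ := hf y
    obtain ⟨b', hb', e'⟩ := hf y'
    rw [hyy] at e
    have h1 : y.1 * y'.1⁻¹ = b * b'⁻¹ := by rw [e, e']; group
    have h2 : y.1 * y'.1⁻¹ ∈ B ⊓ V := by
      refine Subgroup.mem_inf.mpr ⟨?_, R.hXmV (Xm.mul_mem y.2.1 (Xm.inv_mem y'.2.1))⟩
      rw [h1]; exact B.mul_mem hb (B.inv_mem hb')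
    rw [R.hBV, Subgroup.mem_bot] at h2
    exact Subtype.ext (mul_inv_eq_one.mp h2)
  -- the two sets are in bijection
  let e : {y : G // y ∈ Xm ∧ y ≠ 1} ≃ {x : G // x ∈ Xp ∧ x ≠ 1} :=
    { toFun := fun y => ⟨s⁻¹ * y.1 * s, R.h1' _ y.2.1, by
        intro h
        apply y.2.2
        have : y.1 = s * (s⁻¹ * y.1 * s) * s⁻¹ := by group
        rw [this, h]; group⟩
      invFun := fun x => ⟨s * x.1 * s⁻¹, R.h1 _ x.2.1, by
        intro h
        apply x.2.2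
        have : x.1 = s⁻¹ * (s * x.1 * s⁻¹) * s := by group
        rw [this, h]; group⟩
      left_inv := fun y => Subtype.ext (by show s * (s⁻¹ * y.1 * s) * s⁻¹ = y.1; group)
      right_inv := fun x => Subtype.ext (by show s⁻¹ * (s * x.1 * s⁻¹) * s = x.1; group) }
  have : Finite {x : G // x ∈ Xp ∧ x ≠ 1} :=
    Finite.of_injective (fun x => (⟨x.1, x.2.1⟩ : Xp)) (fun a b h => Subtype.ext (by
      have := congrArg (fun z : Xp => (z : G)) h
      exact this))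
  have : Finite {y : G // y ∈ Xm ∧ y ≠ 1} := Finite.of_equiv _ e.symm
  have hsurj : Function.Surjective f := (Finite.injective_iff_surjective_of_equiv e).mp hinj
  obtain ⟨y, hy⟩ := hsurj ⟨x, hx, hx1⟩
  obtain ⟨b, hb, e'⟩ := hf y
  rw [hy] at e'
  exact ⟨y.1, y.2.1, y.2.2, b, hb, e'⟩

/-- the rank one decomposition: `s x ∈ B Xm` for `1 ≠ x ∈ Xp` -/
theorem RankOne.para (R : RankOne B V U Xp Xm s) (x : G) (hx : x ∈ Xp) (hx1 : x ≠ 1) :
    ∃ b ∈ B, ∃ y ∈ Xm, s * x = b * y := by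
  obtain ⟨y, hy, -, b, hb, e⟩ := R.cell_surj x hx hx1
  refine ⟨b⁻¹, B.inv_mem hb, y, hy, ?_⟩
  rw [e]; group

/-- `Xp` and `Xm` do not commute elementwise -/
theorem RankOne.ncomm (R : RankOne B V U Xp Xm s) : ∃ a ∈ Xp, ∃ y ∈ Xm, a * y ≠ y * a := by
  by_contra hcon
  push Not at hcon
  obtain ⟨y, hy, hy1⟩ := R.hne
  obtain ⟨b, hb, x, hx, e⟩ := R.hcell y hy hy1
  obtain ⟨a, ha, ha1⟩ := R.exists_ne
  -- `a' = x⁻¹ a x`
  set a' := x⁻¹ * a * x with ha'
  have ha'X : a' ∈ Xp := Xp.mul_mem (Xp.mul_mem (Xp.inv_mem hx) ha) hx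
  have h1 : y * a' * y⁻¹ = a' := by
    have := hcon a' ha'X y hy
    rw [← this]; group
  have h2 : s * a * s⁻¹ = b⁻¹ * a' * b := by
    have : s * a * s⁻¹ = b⁻¹ * ((b * s * x) * a' * (b * s * x)⁻¹) * b := by rw [ha']; group
    rw [this, ← e, h1]
  have h3 : s * a * s⁻¹ ∈ B ⊓ V := by
    refine Subgroup.mem_inf.mpr ⟨?_, R.hXmV (R.h1 a ha)⟩
    rw [h2]
    have := R.hUn b⁻¹ (B.inv_mem hb) a' (R.hXpU ha'X)
    rw [inv_inv] at this
    exact R.hUB this
  rw [R.hBV, Subgroup.mem_bot] at h3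
  apply ha1
  have : a = s⁻¹ * (s * a * s⁻¹) * s := by group
  rw [this, h3]; group

/-- the image of `s` under an automorphism stabilising `B`, `Xp`, `Xm` lies in `B s Xp` -/
theorem RankOne.map_s (R : RankOne B V U Xp Xm s) (θ : G ≃* G) (hB : ∀ b ∈ B, θ b ∈ B)
    (hp : ∀ x ∈ Xp, θ x ∈ Xp) (hm : ∀ y ∈ Xm, θ y ∈ Xm) :
    ∃ b ∈ B, ∃ x0 ∈ Xp, θ s = b * s * x0 := by
  obtain ⟨y, hy, hy1⟩ := R.hne
  obtain ⟨b, hb, x, hx, e⟩ := R.hcell y hy hy1
  have hθy1 : θ y ≠ 1 := fun h => hy1 (θ.injective (by rw [h, map_one]))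
  obtain ⟨b', hb', x', hx', e'⟩ := R.hcell (θ y) (hm y hy) hθy1
  refine ⟨(θ b)⁻¹ * b', B.mul_mem (B.inv_mem (hB b hb)) hb', x' * (θ x)⁻¹,
    Xp.mul_mem hx' (Xp.inv_mem (hp x hx)), ?_⟩
  have hs : s = b⁻¹ * y * x⁻¹ := by rw [e]; group
  calc θ s = (θ b)⁻¹ * θ y * (θ x)⁻¹ := by
        conv_lhs => rw [hs]
        simp only [map_mul, map_inv]
    _ = (θ b)⁻¹ * b' * s * (x' * (θ x)⁻¹) := by rw [e']; group

/-- rigidity: an automorphism stabilising `B`, trivial on `Xp` and stabilising `Xm` is trivial on `Xm` -/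
theorem RankOne.rigid (R : RankOne B V U Xp Xm s) (θ : G ≃* G) (hB : ∀ b ∈ B, θ b ∈ B)
    (hp : ∀ x ∈ Xp, θ x = x) (hm : ∀ y ∈ Xm, θ y ∈ Xm) : ∀ y ∈ Xm, θ y = y := by
  obtain ⟨b0, hb0, x0, hx0, e0⟩ := R.map_s θ hB (fun x hx => by rw [hp x hx]; exact hx) hm
  -- `x0 = 1`
  have hx01 : x0 = 1 := by
    by_contra hne
    have hne' : x0⁻¹ ≠ 1 := fun h => hne (inv_eq_one.mp h)
    obtain ⟨y, hy, hy1, b, hb, e⟩ := R.cell_surj x0⁻¹ (Xp.inv_mem hx0) hne'
    have h1 : θ y = θ b * b0 * s := by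
      rw [e, map_mul, map_mul, e0, hp _ (Xp.inv_mem hx0)]; group
    exact R.cell_ne_one (hm y hy) (B.mul_mem (hB b hb) hb0) h1
  rw [hx01, mul_one] at e0
  intro y hy
  by_cases hy1 : y = 1
  · rw [hy1, map_one]
  obtain ⟨b, hb, x, hx, e⟩ := R.hcell y hy hy1
  have h1 : θ y = θ b * b0 * s * x := by
    rw [e, map_mul, map_mul, e0, hp x hx]; group
  have h2 : θ y * y⁻¹ = θ b * b0 * b⁻¹ := by
    rw [h1]
    conv_lhs => rw [e]
    group
  have h3 : θ y * y⁻¹ ∈ B ⊓ V := by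
    refine Subgroup.mem_inf.mpr ⟨?_, R.hXmV (Xm.mul_mem (hm y hy) (Xm.inv_mem hy))⟩
    rw [h2]
    exact B.mul_mem (B.mul_mem (hB b hb) hb0) (B.inv_mem hb)
  rw [R.hBV, Subgroup.mem_bot] at h3
  exact mul_inv_eq_one.mp h3

/-- the action of `s` on the torus `T` commutes with an automorphism stabilising `B`, `T`, `Xp`, `Xm` -/
theorem RankOne.weyl_act (R : RankOne B V U Xp Xm s) (T : Subgroup G) (hTB : T ≤ B)
    (hTU : T ⊓ U = ⊥) (hBUT : ∀ b ∈ B, ∃ u ∈ U, ∃ t ∈ T, b = u * t)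
    (hTcomm : ∀ t ∈ T, ∀ t' ∈ T, t * t' = t' * t)
    (hTX : ∀ t ∈ T, ∀ x ∈ Xp, t * x * t⁻¹ ∈ Xp) (hsT : ∀ t ∈ T, s * t * s⁻¹ ∈ T)
    (hfpf : ∀ x ∈ Xp, (∀ t ∈ T, t * x * t⁻¹ = x) → x = 1)
    (θ : G ≃* G) (hB : ∀ b ∈ B, θ b ∈ B) (hT : ∀ t ∈ T, θ t ∈ T) (hT' : ∀ t ∈ T, θ.symm t ∈ T)
    (hp : ∀ x ∈ Xp, θ x ∈ Xp) (hm : ∀ y ∈ Xm, θ y ∈ Xm) :
    ∀ t ∈ T, θ (s * t * s⁻¹) = s * θ t * s⁻¹ := by
  obtain ⟨b0, hb0, x0, hx0, e0⟩ := R.map_s θ hB hp hm
  -- `θ s` normalises `T`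
  have hnorm : ∀ t ∈ T, θ s * t * (θ s)⁻¹ ∈ T := by
    intro t ht
    have : θ s * t * (θ s)⁻¹ = θ (s * θ.symm t * s⁻¹) := by
      simp only [map_mul, map_inv, MulEquiv.apply_symm_apply]
    rw [this]
    exact hT _ (hsT _ (hT' t ht))
  -- `x0` is centralised by `T`
  have hx01 : x0 = 1 := by
    apply hfpf x0 hx0
    intro t ht
    have ht' : t⁻¹ ∈ T := T.inv_mem ht
    set t'' := θ s * t⁻¹ * (θ s)⁻¹ with ht''
    have ht''T : t'' ∈ T := hnorm _ ht'
    -- `(b0 s x0) t⁻¹ = t'' (b0 s x0)`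
    have h1 : b0 * s * x0 * t⁻¹ = t'' * (b0 * s * x0) := by
      rw [ht'', ← e0]; group
    have h2 : b0 * (s * t⁻¹ * s⁻¹) * s * (t * x0 * t⁻¹) = (t'' * b0) * s * x0 := by
      have : b0 * (s * t⁻¹ * s⁻¹) * s * (t * x0 * t⁻¹) = b0 * s * x0 * t⁻¹ := by group
      rw [this, h1]; group
    have := R.cell_unique (B.mul_mem hb0 (hTB (hsT _ ht'))) (B.mul_mem (hTB ht''T) hb0)
      (hTX t ht x0 hx0) hx0 h2
    exact this
  rw [hx01, mul_one] at e0
  obtain ⟨u, hu, t0, ht0, eb⟩ := hBUT b0 hb0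
  -- `θ s` acts on `T` as `s`
  have hact : ∀ t ∈ T, θ s * t * (θ s)⁻¹ = s * t * s⁻¹ := by
    intro t ht
    set t1 := s * t * s⁻¹ with ht1
    have ht1T : t1 ∈ T := hsT t ht
    have h1 : θ s * t * (θ s)⁻¹ = u * t1 * u⁻¹ := by
      have : θ s * t * (θ s)⁻¹ = u * (t0 * t1 * t0⁻¹) * u⁻¹ := by
        rw [e0, eb, ht1]; group
      rw [this]
      have : t0 * t1 * t0⁻¹ = t1 := by
        rw [hTcomm t0 ht0 t1 ht1T]; group
      rw [this]
    have h2 : t1⁻¹ * (u * t1 * u⁻¹) ∈ T ⊓ U := by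
      refine Subgroup.mem_inf.mpr ⟨?_, ?_⟩
      · rw [← h1]
        exact T.mul_mem (T.inv_mem ht1T) (hnorm t ht)
      · have : t1⁻¹ * (u * t1 * u⁻¹) = (t1⁻¹ * u * t1⁻¹⁻¹) * u⁻¹ := by group
        rw [this]
        exact U.mul_mem (R.hUn _ (hTB (T.inv_mem ht1T)) u hu) (U.inv_mem hu)
    rw [hTU, Subgroup.mem_bot] at h2
    rw [h1]
    have : u * t1 * u⁻¹ = t1 * (t1⁻¹ * (u * t1 * u⁻¹)) := by group
    rw [this, h2, mul_one]
  intro t ht
  rw [map_mul, map_mul, map_inv]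
  exact hact _ (hT t ht)

end RankOne

section TorusChar

variable {K : Type*} [Field K]

/-- the torus character lemma: an additive bijection of `K` which is semi-equivariant for a torus acting through a
surjective character is `t ↦ c τ(t)` for a field automorphism `τ` -/
theorem torus_char (α : K → K) (hadd : ∀ s t, α (s + t) = α s + α t) (hbij : Function.Bijective α)
    {T : Type*} (κ κ' : T → K) (hsurj : ∀ y : K, y ≠ 0 → ∃ g, κ g = y)
    (heq : ∀ g t, α (κ g * t) = κ' g * α t) :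
    ∃ (c : K) (τ : K ≃+* K), c ≠ 0 ∧ (∀ t, α t = c * τ t) ∧ ∀ g, κ' g = τ (κ g) := by
  have h0 : α 0 = 0 := by
    have := hadd 0 0
    rw [add_zero] at this
    exact left_eq_add.mp this
  set c := α 1 with hc
  have hc0 : c ≠ 0 := by
    intro h
    have : α 1 = α 0 := by rw [← hc, h, h0]
    exact one_ne_zero (hbij.1 this)
  -- `κ' g = α (κ g) / c`
  have hκ' : ∀ g, κ' g = α (κ g) / c := by
    intro g
    have := heq g 1
    rw [mul_one] at this
    rw [this, ← hc, mul_div_assoc, div_self hc0, mul_one]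
  have hmul : ∀ y t, α (y * t) / c = (α y / c) * (α t / c) := by
    intro y t
    by_cases hy : y = 0
    · rw [hy, zero_mul, h0, zero_div, zero_mul]
    obtain ⟨g, hg⟩ := hsurj y hy
    rw [← hg, heq g t, hκ' g]
    ring
  let τ : K ≃+* K :=
    { toFun := fun t => α t / c
      invFun := fun t => (Equiv.ofBijective α hbij).symm (c * t)
      left_inv := by
        intro t
        show (Equiv.ofBijective α hbij).symm (c * (α t / c)) = t
        rw [mul_div_cancel₀ _ hc0]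
        exact (Equiv.ofBijective α hbij).symm_apply_apply t
      right_inv := by
        intro t
        show α ((Equiv.ofBijective α hbij).symm (c * t)) / c = t
        have : α ((Equiv.ofBijective α hbij).symm (c * t)) = c * t :=
          (Equiv.ofBijective α hbij).apply_symm_apply (c * t)
        rw [this, mul_div_cancel_left₀ _ hc0]
      map_mul' := fun y t => hmul y t
      map_add' := by
        intro y t
        show α (y + t) / c = α y / c + α t / c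
        rw [hadd, add_div] }
  refine ⟨c, τ, hc0, ?_, ?_⟩
  · intro t
    show α t = c * (α t / c)
    rw [mul_div_cancel₀ _ hc0]
  · intro g
    exact hκ' g

end TorusChar

section Suz

variable {K : Type*} [Field K] [CharP K 2] {G : Type*} [Group G]

/-- automorphisms of a root group of Suzuki type: if `θ` stabilises the group of the `β(t, u)`
(`β(t₁,u₁) β(t₂,u₂) = β(t₁+t₂, u₁+u₂+φ(t₁)t₂)`) and is semi-equivariant for a torus acting by
`β(t,u) ↦ β(κ t, φ(κ) κ u)` through a surjective character, then `θ β(t,u) = β(c τ t, φ(c) c τ u)`. -/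
theorem suz_aut (φ : K →+* K) (e : ℕ) (hφe : ∀ t, φ t = t ^ e)
    (hN : ∀ y : K, y ≠ 0 → ∃ x : K, x ≠ 0 ∧ φ x * x = y) (hb : ∃ b : K, φ b ≠ b)
    (β : K → K → G) (hmul : ∀ t₁ u₁ t₂ u₂, β t₁ u₁ * β t₂ u₂ = β (t₁ + t₂) (u₁ + u₂ + φ t₁ * t₂))
    (hinj : ∀ t u t' u', β t u = β t' u' → t = t' ∧ u = u')
    (θ : G ≃* G) (hθ : ∀ t u, ∃ t' u', θ (β t u) = β t' u') (hθ' : ∀ t u, ∃ t' u', θ (β t' u') = β t u)
    {T : Type*} (κ κ' : T → K) (hκ : ∀ y : K, y ≠ 0 → ∃ g, κ g = y)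
    (hequiv : ∀ g t u t' u', θ (β t u) = β t' u' →
      θ (β (κ g * t) (φ (κ g) * κ g * u)) = β (κ' g * t') (φ (κ' g) * κ' g * u')) :
    ∃ (c : K) (τ : K ≃+* K), c ≠ 0 ∧ (∀ t u, θ (β t u) = β (c * τ t) (φ c * c * τ u)) ∧
      ∀ g, κ' g = τ (κ g) := by
  have hself : ∀ x : K, x + x = 0 := fun x => CharTwo.add_self_eq_zero x
  have hφ0 : ∀ x : K, φ x * x = 0 → x = 0 := by
    intro x hx
    rcases mul_eq_zero.mp hx with h | h
    · exact (map_eq_zero φ).mp h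
    · exact h
  -- `β 0 0 = 1`
  have hβ0 : β 0 0 = 1 := by
    have := hmul 0 0 0 0
    simp only [add_zero, map_zero, mul_zero] at this
    exact mul_eq_left.mp this
  -- squares
  have hsq : ∀ t u, β t u * β t u = β 0 (φ t * t) := by
    intro t u
    rw [hmul, hself, hself, zero_add]
  -- coordinates of the images
  choose A D hAD using hθ
  -- the centre goes to the centre
  have hA0 : ∀ u, A 0 u = 0 := by
    intro u
    have h1 : θ (β 0 u) * θ (β 0 u) = 1 := by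
      rw [← map_mul, hsq, map_zero, zero_mul, hβ0, map_one]
    rw [hAD, hsq, ← hβ0] at h1
    exact hφ0 _ ((hinj _ _ _ _ h1).2)
  set α : K → K := fun t => A t 0 with hα
  set δ : K → K := fun t => D t 0 with hδ
  set γ : K → K := fun u => D 0 u with hγ
  have hcen : ∀ u, θ (β 0 u) = β 0 (γ u) := by
    intro u
    rw [hAD, hA0]
  have hbase : ∀ t, θ (β t 0) = β (α t) (δ t) := fun t => hAD t 0
  have hsplit : ∀ t u, β t u = β t 0 * β 0 u := by
    intro t u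
    rw [hmul]
    simp
  have hgen : ∀ t u, θ (β t u) = β (α t) (δ t + γ u) := by
    intro t u
    rw [hsplit, map_mul, hbase, hcen, hmul]
    simp
  -- `δ 0 = 0`, `γ 0 = 0`, `α 0 = 0`
  have h00 : α 0 = 0 ∧ δ 0 = 0 := by
    have h1 : θ (β 0 0) = β 0 0 := by rw [hβ0, map_one]
    rw [hbase] at h1
    exact hinj _ _ _ _ h1
  have hγ0 : γ 0 = 0 := by
    have h1 : θ (β 0 0) = β 0 0 := by rw [hβ0, map_one]
    rw [hcen] at h1
    exact (hinj _ _ _ _ h1).2
  -- additivity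
  have hE : ∀ t t', α (t + t') = α t + α t' ∧
      δ (t + t') + γ (φ t * t') = δ t + δ t' + φ (α t) * α t' := by
    intro t t'
    have h1 : β t 0 * β t' 0 = β (t + t') (φ t * t') := by
      rw [hmul]; simp
    have h2 := congrArg θ h1
    rw [map_mul, hbase, hbase, hmul, hgen] at h2
    have := hinj _ _ _ _ h2
    exact ⟨this.1.symm, this.2.symm⟩
  have hαadd : ∀ t t', α (t + t') = α t + α t' := fun t t' => (hE t t').1
  have hγadd : ∀ u u', γ (u + u') = γ u + γ u' := by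
    intro u u'
    have h1 : β 0 u * β 0 u' = β 0 (u + u') := by
      rw [hmul]; simp
    have h2 := congrArg θ h1
    rw [map_mul, hcen, hcen, hcen, hmul] at h2
    have := (hinj _ _ _ _ h2).2
    simp only [map_zero, zero_mul, add_zero] at this
    exact this.symm
  -- bijectivity
  have hαinj0 : ∀ t, α t = 0 → t = 0 := by
    intro t ht
    have h1 : θ (β t 0 * β t 0) = 1 := by
      rw [map_mul, hbase, ht, hsq, map_zero, zero_mul, hβ0]
    have h2 : β t 0 * β t 0 = 1 := θ.injective (by rw [h1, map_one])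
    rw [hsq, ← hβ0] at h2
    exact hφ0 _ ((hinj _ _ _ _ h2).2)
  have hαbij : Function.Bijective α := by
    constructor
    · intro t t' h
      have h1 : α (t + t') = 0 := by rw [hαadd, h, hself]
      have h2 := hαinj0 _ h1
      have : t = t + (t' + t') := by rw [hself, add_zero]
      rw [this, ← add_assoc, h2, zero_add]
    · intro a
      obtain ⟨t', u', h⟩ := hθ' a 0
      rw [hgen] at h
      exact ⟨t', (hinj _ _ _ _ h).1⟩
  have hγbij : Function.Bijective γ := by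
    constructor
    · intro u u' h
      have h1 : θ (β 0 u) = θ (β 0 u') := by rw [hcen, hcen, h]
      exact (hinj _ _ _ _ (θ.injective h1)).2
    · intro d
      obtain ⟨t', u', h⟩ := hθ' 0 d
      rw [hgen] at h
      obtain ⟨h1, h2⟩ := hinj _ _ _ _ h
      have ht' : t' = 0 := hαinj0 _ h1
      rw [ht', h00.2, zero_add] at h2
      exact ⟨u', h2⟩
  -- equivariance
  have heqα : ∀ g t, α (κ g * t) = κ' g * α t := by
    intro g t
    have := hequiv g t 0 _ _ (hbase t)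
    rw [mul_zero, hbase] at this
    exact (hinj _ _ _ _ this).1
  have heqδ : ∀ g t, δ (κ g * t) = φ (κ' g) * κ' g * δ t := by
    intro g t
    have := hequiv g t 0 _ _ (hbase t)
    rw [mul_zero, hbase] at this
    exact (hinj _ _ _ _ this).2
  have heqγ : ∀ g u, γ (φ (κ g) * κ g * u) = φ (κ' g) * κ' g * γ u := by
    intro g u
    have := hequiv g 0 u _ _ (hcen u)
    rw [mul_zero, mul_zero, hcen] at this
    exact (hinj _ _ _ _ this).2
  -- the torus character lemma, twice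
  obtain ⟨c, τ, hc0, hατ, hκτ⟩ := torus_char α hαadd hαbij κ κ' hκ heqα
  have hκ2 : ∀ y : K, y ≠ 0 → ∃ g, (fun g => φ (κ g) * κ g) g = y := by
    intro y hy
    obtain ⟨x, hx0, hx⟩ := hN y hy
    obtain ⟨g, hg⟩ := hκ x hx0
    exact ⟨g, by show φ (κ g) * κ g = y; rw [hg, hx]⟩
  obtain ⟨c₂, τ₂, hc₂0, hγτ, hκτ₂⟩ := torus_char γ hγadd hγbij (fun g => φ (κ g) * κ g)
    (fun g => φ (κ' g) * κ' g) hκ2 heqγ
  have hφτ : ∀ x, φ (τ x) = τ (φ x) := by
    intro x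
    rw [hφe, hφe, map_pow]
  have hτ₂ : ∀ y, τ₂ y = τ y := by
    intro y
    by_cases hy : y = 0
    · rw [hy, map_zero, map_zero]
    obtain ⟨x, hx0, hx⟩ := hN y hy
    obtain ⟨g, hg⟩ := hκ x hx0
    have := hκτ₂ g
    rw [hg, hx, hκτ g, hg, hφτ, ← map_mul, hx] at this
    exact this.symm
  -- `c₂ = φ c * c`
  have hc₂ : c₂ = φ c * c := by
    have h1 := (hE 1 1).2
    rw [hself, hself, h00.2, zero_add, zero_add, map_one, one_mul, hγτ, hτ₂, map_one, mul_one, hατ,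
      map_one, mul_one] at h1
    exact h1
  -- `δ` is additive
  have hδadd : ∀ t t', δ (t + t') = δ t + δ t' := by
    intro t t'
    have h1 := (hE t t').2
    rw [hγτ, hτ₂, hc₂, hατ, hατ, map_mul, map_mul, hφτ] at h1
    have h2 : δ (t + t') = δ t + δ t' + (φ c * τ (φ t) * (c * τ t') + φ c * c * (τ (φ t) * τ t')) := by
      rw [← add_assoc, ← h1, add_assoc, hself, add_zero]
    rw [h2]
    have : φ c * τ (φ t) * (c * τ t') + φ c * c * (τ (φ t) * τ t') = 0 := by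
      have : φ c * τ (φ t) * (c * τ t') = φ c * c * (τ (φ t) * τ t') := by ring
      rw [this, hself]
    rw [this, add_zero]
  -- `δ = 0`
  have hδx : ∀ x : K, x ≠ 0 → δ x = φ (τ x) * τ x * δ 1 := by
    intro x hx
    obtain ⟨g, hg⟩ := hκ x hx
    have := heqδ g 1
    rw [mul_one, hg, hκτ g, hg] at this
    exact this
  have hδ1 : δ 1 = 0 := by
    obtain ⟨b, hb⟩ := hb
    have hb0 : b ≠ 0 := by
      rintro rfl
      exact hb (map_zero φ)
    have hb1 : 1 + b ≠ 0 := by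
      intro h
      have : b = 1 := by
        have h2 : b = b + (1 + b) := by rw [h, add_zero]
        rw [h2, add_comm 1 b, ← add_assoc, hself, zero_add]
      exact hb (by rw [this, map_one])
    have h1 := hδadd 1 b
    rw [hδx _ hb1, hδx _ hb0, map_add, map_add, map_one, map_one] at h1
    have h2 : (τ b + φ (τ b)) * δ 1 = 0 := by
      linear_combination h1
    rcases mul_eq_zero.mp h2 with h3 | h3
    · exfalso
      rw [hφτ, ← map_add] at h3
      have h4 : b + φ b = 0 := (map_eq_zero τ).mp h3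
      apply hb
      have : φ b = φ b + (b + φ b) := by rw [h4, add_zero]
      rw [this, add_comm b, ← add_assoc, hself, zero_add]
    · exact h3
  have hδ0 : ∀ x, δ x = 0 := by
    intro x
    by_cases hx : x = 0
    · rw [hx]; exact h00.2
    · rw [hδx x hx, hδ1, mul_zero]
  refine ⟨c, τ, hc0, ?_, hκτ⟩
  intro t u
  rw [hgen, hδ0, zero_add, hατ, hγτ, hτ₂, hc₂]

end Suz

section Main

variable {G : Type*} [Group G] {P : BNPair G} {p : ℕ} {U V : Subgroup G} {I : Type*} {s : I → G}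
  {Xp Xm : I → Subgroup G} {n₀ : G} {star : I → I}

/-- the first reduction (`L1Hyp.main`), recording also that the adjusted automorphism stabilises `U` and `V` -/
theorem L1Hyp.main' [Finite G] [Finite I] [Fact p.Prime] (h : L1Hyp P p U V s Xp Xm n₀ star) (θ : G ≃* G) :
    ∃ (g : G) (π : Equiv.Perm I), im (θ.trans (MulAut.conj g)) U = U ∧ im (θ.trans (MulAut.conj g)) V = V ∧
      ∀ i, im (θ.trans (MulAut.conj g)) (Xp i) = Xp (π i) ∧ im (θ.trans (MulAut.conj g)) (Xm i) = Xm (π i) := by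
  obtain ⟨Q, hQ⟩ := h.sylow
  -- step 1: move `θ U` back to `U`
  obtain ⟨g₁, hg₁⟩ := exists_cjg_eq_of_card Q (im θ U) (by rw [card_im, hQ])
  rw [hQ] at hg₁
  set θ₁ := θ.trans (MulAut.conj g₁) with hθ₁
  have hU₁ : im θ₁ U = U := by rw [hθ₁, im_trans, im_conj, hg₁]
  -- step 2: the image of `V`
  have hcardV : Nat.card V = Nat.card U := by rw [← h.n0_U, card_cjg]
  obtain ⟨g₂, hg₂⟩ := exists_cjg_eq_of_card Q (im θ₁ V) (by rw [card_im, hcardV, hQ])
  rw [hQ] at hg₂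
  have hW : im θ₁ V = cjg g₂⁻¹ U := by rw [← hg₂, cjg_inv_cjg]
  have hUV : U ⊓ V = ⊥ := by
    apply le_antisymm _ bot_le
    rw [← h.B_inf_V]
    exact inf_le_inf_right _ h.U_le
  have hWU : cjg g₂⁻¹ U ⊓ U = ⊥ := by
    rw [← hW]
    conv_lhs => rw [← hU₁]
    rw [← im_inf, inf_comm, hUV, im_bot]
  obtain ⟨n, hn, hgn⟩ := bruhat_exists P g₂⁻¹
  rw [mem_dc] at hgn
  obtain ⟨b, hb, b', hb', e⟩ := hgn
  have e1 : cjg g₂⁻¹ U = cjg b (cjg n U) := by
    rw [e, cjg_mul, cjg_mul, h.U_norm b' hb']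
  have hnU : cjg n U ⊓ U = ⊥ := by
    have h1 : cjg b⁻¹ (cjg g₂⁻¹ U ⊓ U) = cjg n U ⊓ U := by
      rw [cjg_inf, e1, cjg_inv_cjg, h.U_norm _ (P.B.inv_mem hb)]
    rw [← h1, hWU, cjg_bot]
  have hnV := h.opp n hn hnU
  obtain ⟨u, hu, huV⟩ := h.V_conj b hb
  have hW2 : im θ₁ V = cjg u V := by rw [hW, e1, hnV, huV]
  set θ₂ := θ₁.trans (MulAut.conj u⁻¹) with hθ₂
  have hU₂ : im θ₂ U = U := by
    rw [hθ₂, im_trans, im_conj, hU₁, cjg_eq_self_of_mem (U.inv_mem hu)]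
  have hV₂ : im θ₂ V = V := by
    rw [hθ₂, im_trans, im_conj, hW2, cjg_inv_cjg]
  have hθ₂' : θ₂ = θ.trans (MulAut.conj (u⁻¹ * g₁)) := by
    ext x
    simp only [hθ₂, hθ₁, MulEquiv.trans_apply, MulAut.conj_apply]
    group
  -- step 3: the permutation of the negative root subgroups
  choose π₁ hπ₁ using h.perm_Xm θ₂ hU₂ hV₂
  -- step 4: the positive root subgroups
  set ψ := ((MulAut.conj n₀ : G ≃* G).trans θ₂).trans (MulAut.conj n₀⁻¹) with hψ
  have hψU : im ψ U = U := by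
    rw [hψ, im_trans, im_trans, im_conj, im_conj, h.n0_U, hV₂, ← h.n0_U, cjg_inv_cjg]
  have hψV : im ψ V = V := by
    rw [hψ, im_trans, im_trans, im_conj, im_conj, h.n0_V, hU₂, ← h.n0_V, cjg_inv_cjg]
  choose π₂ hπ₂ using h.perm_Xm ψ hψU hψV
  have hXp : ∀ i, im θ₂ (Xp (star i)) = Xp (star (π₂ i)) := by
    intro i
    have h1 := hπ₂ i
    rw [hψ, im_trans, im_trans, im_conj, im_conj, h.Xp_eq] at h1
    have h2 := congrArg (cjg n₀) h1
    rw [cjg_cjg_inv, h.Xp_eq] at h2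
    exact h2
  choose sinv hsinv using h.star_surj
  have hXp' : ∀ j, im θ₂ (Xp j) = Xp (star (π₂ (sinv j))) := by
    intro j
    have := hXp (sinv j)
    rwa [hsinv] at this
  -- the two permutations agree
  have hagree : ∀ j, star (π₂ (sinv j)) = π₁ j := by
    intro j
    by_contra hne
    obtain ⟨a, ha, c, hc, hac⟩ := h.ncomm j
    have ha' : θ₂ a ∈ Xp (star (π₂ (sinv j))) := by rw [← hXp' j]; exact apply_mem_im ha
    have hc' : θ₂ c ∈ Xm (π₁ j) := by rw [← hπ₁ j]; exact apply_mem_im hc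
    have := h.comm _ _ hne _ ha' _ hc'
    rw [← map_mul, ← map_mul] at this
    exact hac (θ₂.injective this)
  have hXm_inj : ∀ i j, Xm i = Xm j → i = j := by
    intro i j hij
    by_contra hne
    obtain ⟨a, ha, c, hc, hac⟩ := h.ncomm i
    rw [hij] at hc
    exact hac (h.comm i j hne a ha c hc)
  have hπ₁inj : Function.Injective π₁ := by
    intro i j hij
    apply hXm_inj
    have h1 := hπ₁ i
    have h2 := hπ₁ j
    rw [hij, ← h2] at h1
    have := congrArg (im θ₂.symm) h1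
    rwa [im_symm_im, im_symm_im] at this
  refine ⟨u⁻¹ * g₁, Equiv.ofBijective π₁ (Finite.injective_iff_bijective.mp hπ₁inj), ?_, ?_, ?_⟩
  · rw [← hθ₂']; exact hU₂
  · rw [← hθ₂']; exact hV₂
  intro i
  rw [← hθ₂']
  refine ⟨?_, hπ₁ i⟩
  rw [hXp' i, hagree i]
  rfl

end Main

end Cfsg.Agent.Helper18.TwF4
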