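import Cfsg.Agent.Helper18.TwF4.Defs

/-!
Helper18 / automorphisms of `²F₄(q)`, PIECE NF (facts on the field with `2^(2m+1)` elements and `φ = (·)^(2^m)`).
-/

set_option autoImplicit false
set_option maxRecDepth 100000

namespace Cfsg.Agent.Helper18.TwF4

open Cfsg Cfsg.Lie Cfsg.Agent.Helper18 Cfsg.Agent.Helper18.Aut Cfsg.Agent.Helper19.Twist
  Cfsg.Agent.Helper19.Poinc Cfsg.Agent.Helper19.Cox Cfsg.Agent.Helper6 Cfsg.Agent.S1080
  Cfsg.Agent.Helper18.Sub Cfsg.Agent.Helper36.F4Class Cfsg.Agent.Helper36.SigmaF4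
  Cfsg.Agent.Helper36.SigmaChev Cfsg.Agent.Helper36.B2Class

variable {K : Type*} [Field K] [CharP K 2] [Fintype K] {m : ℕ}

/-- auxiliary (helper22): `gcd (2^m + 1) (2^(2m+1) - 1) = 1` -/
theorem nf_coprime_h22 (m : ℕ) : Nat.Coprime (2 ^ m + 1) (2 ^ (2 * m + 1) - 1) := by
  have h1 : 1 ≤ 2 ^ m := Nat.one_le_two_pow
  have e : 2 ^ (2 * m + 1) - 1 = 2 * (2 ^ m - 1) * (2 ^ m + 1) + 1 := by
    obtain ⟨a, ha⟩ : ∃ a, 2 ^ m = a + 1 := ⟨2 ^ m - 1, by omega⟩
    have : 2 ^ (2 * m + 1) = 2 * (2 ^ m * 2 ^ m) := by ring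
    rw [this, ha]
    simp only [Nat.add_sub_cancel]
    have : 2 * ((a + 1) * (a + 1)) = 2 * a * (a + 1 + 1) + 1 + 1 := by ring
    omega
  rw [e]
  have : Nat.Coprime (2 ^ m + 1) (2 * (2 ^ m - 1) * (2 ^ m + 1) + 1) := by
    rw [Nat.coprime_mul_right_add_right]
    exact Nat.coprime_one_right _
  exact this

/-- PIECE NF-1: `x ↦ φ(x) x = x^(2^m + 1)` is onto `K*` (`gcd (2^m + 1) (2^(2m+1) - 1) = 1`:
`2^(2m+1) - 1 = 2 (2^m + 1)(2^m - 1) + 1`; the power map is then injective on the finite group `Kˣ`, e.g.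
`Nat.Coprime` + `pow_left_injective`-type lemmas for finite groups: `IsCyclic`/`orderOf_dvd_card`) -/
theorem norm_surj (hK : Fintype.card K = 2 ^ (2 * m + 1)) (y : K) (hy : y ≠ 0) :
    ∃ x : K, x ≠ 0 ∧ phi m x * x = y := by
  classical
  have hcard : Nat.card Kˣ = 2 ^ (2 * m + 1) - 1 := by
    rw [Nat.card_eq_fintype_card, Fintype.card_units, hK]
  have hco : (Nat.card Kˣ).Coprime (2 ^ m + 1) := by
    rw [hcard]
    exact (nf_coprime_h22 m).symm
  obtain ⟨x, hx⟩ := (powCoprime hco).surjective (Units.mk0 y hy)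
  refine ⟨(x : K), x.ne_zero, ?_⟩
  have := congrArg (fun u : Kˣ => (u : K)) hx
  simp only [powCoprime_apply, Units.val_pow_eq_pow_val, Units.val_mk0] at this
  rw [phi_apply, ← this, pow_succ]

/-- PIECE NF-2: `φ` is not the identity for `m ≥ 1` (the polynomial `X^(2^m) - X` has at most `2^m < |K|` roots) -/
theorem exists_phi_ne (hm : 1 ≤ m) (hK : Fintype.card K = 2 ^ (2 * m + 1)) : ∃ b : K, phi m b ≠ b := by
  classical
  by_contra hcon
  push Not at hcon
  have hlt : 1 < 2 ^ m := Nat.one_lt_two_pow (by omega)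
  have hroots : ∀ b : K, b ∈ (Polynomial.X ^ (2 ^ m) - Polynomial.X : Polynomial K).roots := by
    intro b
    rw [Polynomial.mem_roots (FiniteField.X_pow_card_pow_sub_X_ne_zero K (p := 2) (by omega) (by norm_num))]
    simp only [Polynomial.IsRoot, Polynomial.eval_sub, Polynomial.eval_pow, Polynomial.eval_X]
    rw [← phi_apply, hcon b, sub_self]
  have hdeg : (Polynomial.X ^ (2 ^ m) - Polynomial.X : Polynomial K).natDegree = 2 ^ m :=
    FiniteField.X_pow_card_pow_sub_X_natDegree_eq K (p := 2) (by omega) (by norm_num)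
  have hcardle : Fintype.card K ≤ 2 ^ m := by
    calc Fintype.card K = (Finset.univ : Finset K).card := Finset.card_univ.symm
      _ ≤ (Polynomial.X ^ (2 ^ m) - Polynomial.X : Polynomial K).roots.toFinset.card := by
        apply Finset.card_le_card
        intro b _
        rw [Multiset.mem_toFinset]
        exact hroots b
      _ ≤ Multiset.card (Polynomial.X ^ (2 ^ m) - Polynomial.X : Polynomial K).roots := Multiset.toFinset_card_le _
      _ ≤ (Polynomial.X ^ (2 ^ m) - Polynomial.X : Polynomial K).natDegree := Polynomial.card_roots' _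
      _ = 2 ^ m := hdeg
  rw [hK] at hcardle
  have : 2 ^ m < 2 ^ (2 * m + 1) := Nat.pow_lt_pow_right (by norm_num) (by omega)
  omega

end Cfsg.Agent.Helper18.TwF4
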