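import Cfsg.Agent.Helper18.TwF4.Defs

/-!
Helper18 / automorphisms of `²F₄(q)`, PIECE FT (the field automorphisms on the root elements).
-/

set_option autoImplicit false
set_option maxRecDepth 100000

namespace Cfsg.Agent.Helper18.TwF4

open Cfsg Cfsg.Lie Cfsg.Agent.Helper18 Cfsg.Agent.Helper18.Aut Cfsg.Agent.Helper19.Twist
  Cfsg.Agent.Helper19.Poinc Cfsg.Agent.Helper19.Cox Cfsg.Agent.Helper6 Cfsg.Agent.S1080
  Cfsg.Agent.Helper18.Sub Cfsg.Agent.Helper36.F4Class Cfsg.Agent.Helper36.SigmaF4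
  Cfsg.Agent.Helper36.SigmaChev Cfsg.Agent.Helper36.B2Class

variable {K : Type*} [Field K] [CharP K 2] [Fintype K] {m : ℕ}

/-- PIECE FT-1: `fieldTw τ (x_P t) = x_P (τ t)` (`glEquiv_xGL`, `PpG_val`, `Pp`; `τ` commutes with `phi m`:
`phi_apply`, `map_pow`) -/
theorem fieldTw_xP (τ : K ≃+* K) (t : K) : fieldTw (2 ^ m) τ (xP m t) = xP m (τ t) := by
  apply Subtype.ext
  rw [fieldTw_coe, xP_coe, xP_coe]
  unfold PpG
  simp only [Subgroup.coe_mul, XG_val, map_mul, glEquiv_xGL chevF4 hF4, phi_apply, map_pow]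

/-- PIECE FT-2: `fieldTw τ (x_S t u) = x_S (τ t) (τ u)` (`BpG_val`, `Bp`, `beta`, `nf`) -/
theorem fieldTw_xS (τ : K ≃+* K) (t u : K) : fieldTw (2 ^ m) τ (xS m t u) = xS m (τ t) (τ u) := by
  apply Subtype.ext
  rw [fieldTw_coe, xS_coe, xS_coe]
  unfold BpG beta nf
  simp only [Subgroup.coe_mul, XG_val, map_mul, glEquiv_xGL chevF4 hF4, phi_apply, map_pow, map_add]

/-- PIECE FT-3: `fieldTw τ (x_{-P} t) = x_{-P} (τ t)` (as FT-1, with `PmG_val`, `Pm`) -/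
theorem fieldTw_yP (τ : K ≃+* K) (t : K) : fieldTw (2 ^ m) τ (yP m t) = yP m (τ t) := by
  apply Subtype.ext
  rw [fieldTw_coe, yP_coe, yP_coe]
  unfold PmG
  simp only [Subgroup.coe_mul, XG_val, map_mul, glEquiv_xGL chevF4 hF4, phi_apply, map_pow]

/-- PIECE FT-4: `fieldTw τ (x_{-S} t u) = x_{-S} (τ t) (τ u)` (as FT-2, with `BmG_val`, `Bm`) -/
theorem fieldTw_yS (τ : K ≃+* K) (t u : K) : fieldTw (2 ^ m) τ (yS m t u) = yS m (τ t) (τ u) := by
  apply Subtype.ext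
  rw [fieldTw_coe, yS_coe, yS_coe]
  unfold BmG beta nf
  simp only [Subgroup.coe_mul, XG_val, map_mul, glEquiv_xGL chevF4 hF4, phi_apply, map_pow, map_add]

end Cfsg.Agent.Helper18.TwF4
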