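import Cfsg.Agent.Helper18.TwF4.Defs

/-!
Helper18 / automorphisms of `²F₄(q)`, PIECE FX (parametrisation of the fundamental root subgroups).
(Proofs: helper49.)
-/

set_option autoImplicit false
set_option maxRecDepth 100000

namespace Cfsg.Agent.Helper18.TwF4

open Cfsg Cfsg.Lie Cfsg.Agent.Helper18 Cfsg.Agent.Helper18.Aut Cfsg.Agent.Helper19.Twist
  Cfsg.Agent.Helper19.Poinc Cfsg.Agent.Helper19.Cox Cfsg.Agent.Helper6 Cfsg.Agent.S1080
  Cfsg.Agent.Helper18.Sub Cfsg.Agent.Helper36.F4Class Cfsg.Agent.Helper36.SigmaF4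
  Cfsg.Agent.Helper36.SigmaChev Cfsg.Agent.Helper36.B2Class

section FXaux

/-- the closure of two commuting additive families consists of the products -/
theorem FX_pair_closure {F Γ : Type*} [AddGroup F] [Group Γ] (x₁ x₂ : F → Γ)
    (add1 : ∀ s t, x₁ (s + t) = x₁ s * x₁ t) (add2 : ∀ s t, x₂ (s + t) = x₂ s * x₂ t)
    (hc : ∀ s t, Commute (x₁ s) (x₂ t)) (S : Set Γ)
    (hS : ∀ g ∈ S, (∃ t, g = x₁ t) ∨ (∃ t, g = x₂ t)) (g : Γ) (hg : g ∈ Subgroup.closure S) :
    ∃ a b, g = x₁ a * x₂ b := by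
  have z1 : x₁ 0 = 1 := by
    have h := add1 0 0
    rw [add_zero] at h
    have h' : x₁ 0 * x₁ 0 = x₁ 0 * 1 := by rw [← h, mul_one]
    exact mul_left_cancel h'
  have z2 : x₂ 0 = 1 := by
    have h := add2 0 0
    rw [add_zero] at h
    have h' : x₂ 0 * x₂ 0 = x₂ 0 * 1 := by rw [← h, mul_one]
    exact mul_left_cancel h'
  have n1 : ∀ t, x₁ (-t) = (x₁ t)⁻¹ := by
    intro t
    rw [eq_inv_iff_mul_eq_one, ← add1, neg_add_cancel, z1]
  have n2 : ∀ t, x₂ (-t) = (x₂ t)⁻¹ := by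
    intro t
    rw [eq_inv_iff_mul_eq_one, ← add2, neg_add_cancel, z2]
  induction hg using Subgroup.closure_induction with
  | mem g hg =>
    rcases hS g hg with ⟨t, rfl⟩ | ⟨t, rfl⟩
    · exact ⟨t, 0, by rw [z2, mul_one]⟩
    · exact ⟨0, t, by rw [z1, one_mul]⟩
  | one => exact ⟨0, 0, by rw [z1, z2, one_mul]⟩
  | mul a b _ _ ha hb =>
    obtain ⟨p, q, rfl⟩ := ha
    obtain ⟨p', q', rfl⟩ := hb
    refine ⟨p + p', q + q', ?_⟩
    rw [add1, add2]
    have e := (hc p' q).eq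
    calc x₁ p * x₂ q * (x₁ p' * x₂ q') = x₁ p * (x₂ q * x₁ p') * x₂ q' := by group
      _ = x₁ p * (x₁ p' * x₂ q) * x₂ q' := by rw [e]
      _ = x₁ p * x₁ p' * (x₂ q * x₂ q') := by group
  | inv a _ ha =>
    obtain ⟨p, q, rfl⟩ := ha
    refine ⟨-p, -q, ?_⟩
    rw [n1, n2, mul_inv_rev]
    have e := (hc p q).eq
    have e' : (x₂ q)⁻¹ * (x₁ p)⁻¹ = (x₁ p)⁻¹ * (x₂ q)⁻¹ := by
      rw [← mul_inv_rev, ← mul_inv_rev, e]
    exact e'

variable {K : Type*} [Field K]

local notation "x18" => Cfsg.Agent.Helper18.xGL chevF4 K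

/-- the generators of a `listSubgroup` are root elements -/
theorem FX_gen_eq (P : List ℕ) (g : GL chevF4.Idx K)
    (hg : g ∈ {g : GL chevF4.Idx K | ∃ (r : ℕ) (t : K), r ∈ P ∧
      (g : Matrix chevF4.Idx chevF4.Idx K) = chevF4.x K r t}) : ∃ r t, r ∈ P ∧ g = x18 r t := by
  obtain ⟨r, t, hr, hg⟩ := hg
  exact ⟨r, t, hr, Units.ext (by
    rw [hg, Cfsg.Agent.Helper18.xGL_val chevF4 _ (Cfsg.Agent.Helper18.triOK_of_mem chevF4 hF4)])⟩

theorem FX_x18_add (r : ℕ) (hr : r < 48) (a b : K) : x18 r (a + b) = x18 r a * x18 r b :=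
  xGL_add' chevF4 hF4 r hr a b

variable [CharP K 2]

/-- the longest element maps `x_s(t)` to `x_{w₀ s}(t)` (characteristic two: no signs) -/
theorem FX_w0_conj (s : ℕ) (hs : s < 48) (t : K) :
    nWordsGL chevF4 K w0word * x18 s t * (nWordsGL chevF4 K w0word)⁻¹ =
      x18 (Cfsg.Agent.Helper18.rho chevF4 w0word s) t := by
  obtain ⟨-, η, hη, hc⟩ := nWordsGL_conj_xGL (F := K) chevF4 hF4 (nConjHyp chevF4 hF4)
    (fun i s hi hs => reflectRoot_lt chevF4 hF4 i s hi hs) w0word (by decide) s hs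
  have h1 : ((η : ℤ) : K) = 1 := by
    rcases hη with rfl | rfl
    · simp
    · simp [CharTwo.neg_eq]
  rw [hc t, h1, one_mul, mul_inv_cancel_right]

theorem FX_rho_w0 : Cfsg.Agent.Helper18.rho chevF4 w0word 14 = 33 ∧
    Cfsg.Agent.Helper18.rho chevF4 w0word 23 = 24 ∧
    Cfsg.Agent.Helper18.rho chevF4 w0word 20 = 27 ∧ Cfsg.Agent.Helper18.rho chevF4 w0word 22 = 25 ∧
    Cfsg.Agent.Helper18.rho chevF4 w0word 19 = 28 ∧ Cfsg.Agent.Helper18.rho chevF4 w0word 17 = 30 := by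
  decide +kernel


/-- uniqueness of the products over the negative class `P` -/
theorem FX_two_inj_neg (a b a' b' : K) (h : x18 14 a * x18 23 b = x18 14 a' * x18 23 b') :
    a = a' ∧ b = b' := by
  have hc : ∀ s t : K, nWordsGL chevF4 K w0word * (x18 14 s * x18 23 t) * (nWordsGL chevF4 K w0word)⁻¹ =
      x18 33 s * x18 24 t := by
    intro s t
    have e14 := FX_w0_conj (K := K) 14 (by norm_num) s
    have e23 := FX_w0_conj (K := K) 23 (by norm_num) t
    rw [FX_rho_w0.1] at e14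
    rw [FX_rho_w0.2.1] at e23
    rw [← e14, ← e23]
    group
  have h' : x18 33 a * x18 24 b = x18 33 a' * x18 24 b' := by
    rw [← hc, ← hc, h]
  have hcm : ∀ a b : K, x18 33 a * x18 24 b = x18 24 b * x18 33 a := fun a b =>
    congrArg Subtype.val (commute_P (K := K) a b).eq
  rw [hcm, hcm] at h'
  obtain ⟨e1, e2⟩ := two_inj _ _ _ _ h'
  exact ⟨e2, e1⟩

/-- uniqueness of the normal form of the negative class `S` -/
theorem FX_nf_inj_neg (p q r s p' q' r' s' : K)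
    (h : nf (x18 20) (x18 22) (x18 19) (x18 17) p q r s = nf (x18 20) (x18 22) (x18 19) (x18 17) p' q' r' s') :
    p = p' ∧ q = q' ∧ r = r' ∧ s = s' := by
  have hc : ∀ p q r s : K, nWordsGL chevF4 K w0word * nf (x18 20) (x18 22) (x18 19) (x18 17) p q r s *
      (nWordsGL chevF4 K w0word)⁻¹ = nf (x18 27) (x18 25) (x18 28) (x18 30) p q r s := by
    intro p q r s
    have e20 := FX_w0_conj (K := K) 20 (by norm_num) p
    have e22 := FX_w0_conj (K := K) 22 (by norm_num) q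
    have e19 := FX_w0_conj (K := K) 19 (by norm_num) r
    have e17 := FX_w0_conj (K := K) 17 (by norm_num) s
    rw [FX_rho_w0.2.2.1] at e20
    rw [FX_rho_w0.2.2.2.1] at e22
    rw [FX_rho_w0.2.2.2.2.1] at e19
    rw [FX_rho_w0.2.2.2.2.2] at e17
    unfold nf
    rw [← e20, ← e22, ← e19, ← e17]
    group
  apply nf_inj
  rw [← hc, ← hc, h]

theorem FX_nfG_inj_neg (p q r s p' q' r' s' : K)
    (h : nf (XG (K := K) 20) (XG 22) (XG 19) (XG 17) p q r s = nf (XG 20) (XG 22) (XG 19) (XG 17) p' q' r' s') :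
    p = p' ∧ q = q' ∧ r = r' ∧ s = s' :=
  FX_nf_inj_neg _ _ _ _ _ _ _ _ (congrArg Subtype.val h)

/-- the elements of `X_{p₁} X_{p₄}` -/
theorem FX_list_Pp (g : GL chevF4.Idx K) (hg : g ∈ listSubgroup chevF4 K [33, 24]) :
    ∃ a b, g = x18 33 a * x18 24 b := by
  unfold listSubgroup at hg
  refine FX_pair_closure (x18 33) (x18 24) (FX_x18_add 33 (by norm_num)) (FX_x18_add 24 (by norm_num))
    ?_ _ ?_ g hg
  · intro s t
    exact (congrArg Subtype.val (commute_P (K := K) s t).eq : x18 33 s * x18 24 t = x18 24 t * x18 33 s)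
  · intro g hg
    obtain ⟨r, t, hr, rfl⟩ := FX_gen_eq _ g hg
    simp only [List.mem_cons, List.not_mem_nil, or_false] at hr
    rcases hr with rfl | rfl
    · exact Or.inl ⟨t, rfl⟩
    · exact Or.inr ⟨t, rfl⟩

/-- the elements of `X_{-p₁} X_{-p₄}` -/
theorem FX_list_Pm (g : GL chevF4.Idx K) (hg : g ∈ listSubgroup chevF4 K [14, 23]) :
    ∃ a b, g = x18 14 a * x18 23 b := by
  unfold listSubgroup at hg
  refine FX_pair_closure (x18 14) (x18 23) (FX_x18_add 14 (by norm_num)) (FX_x18_add 23 (by norm_num))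
    ?_ _ ?_ g hg
  · intro s t
    exact (congrArg Subtype.val (commute_Pm (K := K) s t).eq : x18 14 s * x18 23 t = x18 23 t * x18 14 s)
  · intro g hg
    obtain ⟨r, t, hr, rfl⟩ := FX_gen_eq _ g hg
    simp only [List.mem_cons, List.not_mem_nil, or_false] at hr
    rcases hr with rfl | rfl
    · exact Or.inl ⟨t, rfl⟩
    · exact Or.inr ⟨t, rfl⟩

/-- the elements of the negative class `S` are normal forms -/
theorem FX_list_Sm_le : listSubgroup chevF4 K [20, 22, 19, 17] ≤ nfSub (relM18 (K := K)) := by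
  unfold listSubgroup
  rw [Subgroup.closure_le]
  intro g hg
  obtain ⟨r, t, hr, rfl⟩ := FX_gen_eq _ g hg
  simp only [List.mem_cons, List.not_mem_nil, or_false] at hr
  rcases hr with rfl | rfl | rfl | rfl
  · exact xa_mem relM18 t
  · exact xb_mem relM18 t
  · exact xc_mem relM18 t
  · exact xd_mem relM18 t

end FXaux

variable {K : Type*} [Field K] [CharP K 2] [Fintype K] {m : ℕ}

local notation "x18" => Cfsg.Agent.Helper18.xGL chevF4 K

/-- PIECE FX-1: `X_0 = {x_P(t)}`.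
Hint: (⇐) `PpG_mem_list` (`Helper19/Twist/F4Inst.lean`). (⇒) an element of `listSubgroup [33, 24]` is
`x_{33}(a) x_{24}(b)` (the two roots are orthogonal, `commute_P`); it lies in `G¹`, hence is `σ`-fixed
(`twisted_le_FixG`), and `pair_fixed` (`Helper36/B2Fix.lean`) gives `a = φ b`. -/
theorem mem_Xp0 (hK : Fintype.card K = 2 ^ (2 * m + 1)) (x : ↥(twistedF4 K (2 ^ m))) :
    x ∈ Xp K m 0 ↔ ∃ t, x = xP m t := by
  constructor
  · intro hx
    obtain ⟨σ, hσ⟩ := exists_sigma (K := K) hK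
    have hx' : (x : GL chevF4.Idx K) ∈ listSubgroup chevF4 K [33, 24] := hx
    obtain ⟨a, b, hab⟩ := FX_list_Pp _ hx'
    obtain ⟨hg, hfix⟩ := twisted_le_FixG hK hσ x.2
    have e1 : (⟨(x : GL chevF4.Idx K), hg⟩ : ↥(chevF4.group K)) = XG 33 a * XG 24 b := Subtype.ext hab
    rw [e1] at hfix
    have key := pair_fixed (XG (K := K) 33) (XG 24) (phi m) (phi_phi hK) σ.toMonoidHom
      (fun s => by
        show σ (XG 33 s) = _
        rw [map_XG hσ 33 (by norm_num), cF_short' m 33 (by decide)]; rfl)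
      (fun s => by
        show σ (XG 24 s) = _
        rw [map_XG hσ 24 (by norm_num), cF_long' m 24 (by decide)]; rfl)
      commute_P
      (fun s t s' t' h => by
        have h' : x18 33 s * x18 24 t = x18 33 s' * x18 24 t' := congrArg Subtype.val h
        have hcm : ∀ a b : K, x18 33 a * x18 24 b = x18 24 b * x18 33 a := fun a b =>
          congrArg Subtype.val (commute_P (K := K) a b).eq
        rw [hcm, hcm] at h'
        obtain ⟨e1, e2⟩ := two_inj _ _ _ _ h'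
        exact ⟨e2, e1⟩)
      a b hfix
    refine ⟨b, Subtype.ext ?_⟩
    rw [hab]
    exact congrArg Subtype.val key
  · rintro ⟨t, rfl⟩
    exact PpG_mem_list (m := m) t

/-- PIECE FX-2: `X_{-0} = {x_{-P}(t)}` -/
theorem mem_Xm0 (hK : Fintype.card K = 2 ^ (2 * m + 1)) (y : ↥(twistedF4 K (2 ^ m))) :
    y ∈ Xm K m 0 ↔ ∃ t, y = yP m t := by
  constructor
  · intro hy
    obtain ⟨σ, hσ⟩ := exists_sigma (K := K) hK
    have hy' : (y : GL chevF4.Idx K) ∈ listSubgroup chevF4 K [14, 23] := hy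
    obtain ⟨a, b, hab⟩ := FX_list_Pm _ hy'
    obtain ⟨hg, hfix⟩ := twisted_le_FixG hK hσ y.2
    have e1 : (⟨(y : GL chevF4.Idx K), hg⟩ : ↥(chevF4.group K)) = XG 14 a * XG 23 b := Subtype.ext hab
    rw [e1] at hfix
    have key := pair_fixed (XG (K := K) 14) (XG 23) (phi m) (phi_phi hK) σ.toMonoidHom
      (fun s => by
        show σ (XG 14 s) = _
        rw [map_XG hσ 14 (by norm_num), cF_short' m 14 (by decide)]; rfl)
      (fun s => by
        show σ (XG 23 s) = _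
        rw [map_XG hσ 23 (by norm_num), cF_long' m 23 (by decide)]; rfl)
      commute_Pm
      (fun s t s' t' h => FX_two_inj_neg s t s' t' (congrArg Subtype.val h))
      a b hfix
    refine ⟨b, Subtype.ext ?_⟩
    rw [hab]
    exact congrArg Subtype.val key
  · rintro ⟨t, rfl⟩
    show ((PmG m t : ↥(chevF4.group K)) : GL chevF4.Idx K) ∈ listSubgroup chevF4 K [14, 23]
    unfold PmG
    simp only [Subgroup.coe_mul, XG_val]
    exact mul_mem (x18_mem_list _ 14 (by simp) _) (x18_mem_list _ 23 (by simp) _)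

/-- PIECE FX-3: `X_1 = {x_S(t, u)}` (`US_JS_fixed`, `US_JS_le`, `BpG_mem_list`; `Helper36/F4Tw.lean`, `F4Fix.lean`) -/
theorem mem_Xp1 (hK : Fintype.card K = 2 ^ (2 * m + 1)) (x : ↥(twistedF4 K (2 ^ m))) :
    x ∈ Xp K m 1 ↔ ∃ t u, x = xS m t u := by
  constructor
  · intro hx
    obtain ⟨σ, hσ⟩ := exists_sigma (K := K) hK
    have hx' : (x : GL chevF4.Idx K) ∈ listSubgroup chevF4 K [27, 25, 28, 30] := hx
    obtain ⟨hg, hfix⟩ := twisted_le_FixG hK hσ x.2
    obtain ⟨t, v, e⟩ := US_JS_fixed hK hσ ⟨(x : GL chevF4.Idx K), hg⟩ (listSubgroup_AS_le hx') hfix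
    have e2 : (x : GL chevF4.Idx K) = ((BpG m t v : ↥(chevF4.group K)) : GL chevF4.Idx K) :=
      congrArg Subtype.val e
    exact ⟨t, v, Subtype.ext e2⟩
  · rintro ⟨t, u, rfl⟩
    exact BpG_mem_list (m := m) t u

/-- PIECE FX-4: `X_{-1} = {x_{-S}(t, u)}` -/
theorem mem_Xm1 (hK : Fintype.card K = 2 ^ (2 * m + 1)) (y : ↥(twistedF4 K (2 ^ m))) :
    y ∈ Xm K m 1 ↔ ∃ t u, y = yS m t u := by
  constructor
  · intro hy
    obtain ⟨σ, hσ⟩ := exists_sigma (K := K) hK
    have hy' : (y : GL chevF4.Idx K) ∈ listSubgroup chevF4 K [20, 22, 19, 17] := hy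
    obtain ⟨hg, hfix⟩ := twisted_le_FixG hK hσ y.2
    obtain ⟨p, q, r, s, e⟩ := FX_list_Sm_le hy'
    have e' : (⟨(y : GL chevF4.Idx K), hg⟩ : ↥(chevF4.group K)) = nf (XG 20) (XG 22) (XG 19) (XG 17) p q r s :=
      Subtype.ext e
    rw [e'] at hfix
    have key := (twM hσ).fixed relMG (phi m) (phi_phi hK) FX_nfG_inj_neg p q r s hfix
    refine ⟨q, r + phi m q * q, Subtype.ext ?_⟩
    have e2 := congrArg Subtype.val (e'.trans key)
    exact e2
  · rintro ⟨t, u, rfl⟩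
    show ((BmG m t u : ↥(chevF4.group K)) : GL chevF4.Idx K) ∈ listSubgroup chevF4 K [20, 22, 19, 17]
    unfold BmG beta nf
    simp only [Subgroup.coe_mul, XG_val]
    exact mul_mem (mul_mem (mul_mem (x18_mem_list _ 20 (by simp) _) (x18_mem_list _ 22 (by simp) _))
      (x18_mem_list _ 19 (by simp) _)) (x18_mem_list _ 17 (by simp) _)

/-- PIECE FX-5: `x_P` is injective (`two_inj`, `commute_P`) -/
theorem xP_inj (t t' : K) (h : xP m t = xP m t') : t = t' := by
  have h1 : x18 33 (phi m t) * x18 24 t = x18 33 (phi m t') * x18 24 t' :=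
    congrArg (fun z : ↥(twistedF4 K (2 ^ m)) => (z : GL chevF4.Idx K)) h
  have hcm : ∀ a b : K, x18 33 a * x18 24 b = x18 24 b * x18 33 a := fun a b =>
    congrArg Subtype.val (commute_P (K := K) a b).eq
  rw [hcm, hcm] at h1
  exact (two_inj _ _ _ _ h1).1

/-- PIECE FX-6: `x_P` is additive -/
theorem xP_add (s t : K) : xP m (s + t) = xP m s * xP m t := by
  apply Subtype.ext
  show x18 33 (phi m (s + t)) * x18 24 (s + t) =
    (x18 33 (phi m s) * x18 24 s) * (x18 33 (phi m t) * x18 24 t)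
  have hcm : ∀ a b : K, x18 33 a * x18 24 b = x18 24 b * x18 33 a := fun a b =>
    congrArg Subtype.val (commute_P (K := K) a b).eq
  rw [map_add, FX_x18_add 33 (by norm_num), FX_x18_add 24 (by norm_num)]
  have e := hcm (phi m t) s
  calc x18 33 (phi m s) * x18 33 (phi m t) * (x18 24 s * x18 24 t)
      = x18 33 (phi m s) * (x18 33 (phi m t) * x18 24 s) * x18 24 t := by group
    _ = x18 33 (phi m s) * (x18 24 s * x18 33 (phi m t)) * x18 24 t := by rw [e]
    _ = (x18 33 (phi m s) * x18 24 s) * (x18 33 (phi m t) * x18 24 t) := by group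

/-- PIECE FX-7: `x_S` is injective (`nfG_inj`) -/
theorem xS_inj (t u t' u' : K) (h : xS m t u = xS m t' u') : t = t' ∧ u = u' := by
  have h0 : ((xS m t u : ↥(twistedF4 K (2 ^ m))) : GL chevF4.Idx K) =
      (xS m t' u' : ↥(twistedF4 K (2 ^ m))) := by rw [h]
  rw [xS_coe, xS_coe] at h0
  have h1 : (BpG m t u : ↥(chevF4.group K)) = BpG m t' u' := Subtype.ext h0
  unfold BpG beta at h1
  obtain ⟨-, e2, e3, -⟩ := nfG_inj _ _ _ _ _ _ _ _ h1
  subst e2
  exact ⟨rfl, add_left_cancel e3⟩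

/-- PIECE FX-8: the group law of the root subgroup of Suzuki type (`beta_mul relPG (phi m) (phi_phi hK)`) -/
theorem xS_mul (hK : Fintype.card K = 2 ^ (2 * m + 1)) (t₁ u₁ t₂ u₂ : K) :
    xS m t₁ u₁ * xS m t₂ u₂ = xS m (t₁ + t₂) (u₁ + u₂ + phi m t₁ * t₂) := by
  apply Subtype.ext
  have h : BpG m t₁ u₁ * BpG m t₂ u₂ = BpG m (t₁ + t₂) (u₁ + u₂ + phi m t₁ * t₂) :=
    beta_mul (relPG (K := K)) (phi m) (phi_phi hK) t₁ u₁ t₂ u₂
  have h' : ((BpG m t₁ u₁ * BpG m t₂ u₂ : ↥(chevF4.group K)) : GL chevF4.Idx K) =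
      ((BpG m (t₁ + t₂) (u₁ + u₂ + phi m t₁ * t₂) : ↥(chevF4.group K)) : GL chevF4.Idx K) :=
    congrArg Subtype.val h
  rw [Subgroup.coe_mul, xS_coe, xS_coe, xS_coe]
  rw [Subgroup.coe_mul] at h'
  exact h'

/-- PIECE FX-9: two automorphisms of `G¹` which agree on the four families of generators are equal
(`twisted_eq`: `G¹ = closure gens`; `PpG_val` etc.; `MulEquiv.ext` + `Subgroup.closure_induction`, compare
`aut_ext_twD4` in `Helper18/Tw/P_Ext.lean`) -/
theorem aut_ext_F4 (θ₁ θ₂ : ↥(twistedF4 K (2 ^ m)) ≃* ↥(twistedF4 K (2 ^ m)))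
    (h1 : ∀ t, θ₁ (xP m t) = θ₂ (xP m t)) (h2 : ∀ t, θ₁ (yP m t) = θ₂ (yP m t))
    (h3 : ∀ t u, θ₁ (xS m t u) = θ₂ (xS m t u)) (h4 : ∀ t u, θ₁ (yS m t u) = θ₂ (yS m t u)) : θ₁ = θ₂ := by
  have key : ∀ (x : GL chevF4.Idx K), x ∈ Subgroup.closure (Cfsg.Agent.Helper36.TwistF4.gens (phi (K := K) m)) →
      ∀ hx : x ∈ twistedF4 K (2 ^ m), θ₁ ⟨x, hx⟩ = θ₂ ⟨x, hx⟩ := by
    intro x hx
    induction hx using Subgroup.closure_induction with
    | mem g hg =>
      intro hx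
      rcases hg with ⟨t, rfl | rfl⟩ | ⟨t, u, rfl | rfl⟩
      · have e : (⟨_, hx⟩ : ↥(twistedF4 K (2 ^ m))) = xP m t := Subtype.ext (PpG_val m t).symm
        rw [e]; exact h1 t
      · have e : (⟨_, hx⟩ : ↥(twistedF4 K (2 ^ m))) = yP m t := Subtype.ext (PmG_val m t).symm
        rw [e]; exact h2 t
      · have e : (⟨_, hx⟩ : ↥(twistedF4 K (2 ^ m))) = xS m t u := Subtype.ext (BpG_val m t u).symm
        rw [e]; exact h3 t u
      · have e : (⟨_, hx⟩ : ↥(twistedF4 K (2 ^ m))) = yS m t u := Subtype.ext (BmG_val m t u).symm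
        rw [e]; exact h4 t u
    | one =>
      intro hx
      have : (⟨1, hx⟩ : ↥(twistedF4 K (2 ^ m))) = 1 := rfl
      rw [this, map_one, map_one]
    | mul a b ha hb iha ihb =>
      intro hx
      have ha' : a ∈ twistedF4 K (2 ^ m) := by rw [twisted_eq]; exact ha
      have hb' : b ∈ twistedF4 K (2 ^ m) := by rw [twisted_eq]; exact hb
      have : (⟨a * b, hx⟩ : ↥(twistedF4 K (2 ^ m))) = ⟨a, ha'⟩ * ⟨b, hb'⟩ := rfl
      rw [this, map_mul, map_mul, iha ha', ihb hb']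
    | inv a ha iha =>
      intro hx
      have ha' : a ∈ twistedF4 K (2 ^ m) := by rw [twisted_eq]; exact ha
      have : (⟨a⁻¹, hx⟩ : ↥(twistedF4 K (2 ^ m))) = (⟨a, ha'⟩ : ↥(twistedF4 K (2 ^ m)))⁻¹ := rfl
      rw [this, map_inv, map_inv, iha ha']
  apply MulEquiv.ext
  rintro ⟨x, hx⟩
  have hx' : x ∈ Subgroup.closure (Cfsg.Agent.Helper36.TwistF4.gens (phi (K := K) m)) := by
    have := hx
    rw [twisted_eq] at this
    exact this
  exact key x hx' hx

end Cfsg.Agent.Helper18.TwF4
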