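import Cfsg.Agent.Helper18.TwF4.Defs

/-!
Helper18 / automorphisms of `²F₄(q)`, PIECE TO (the torus `T¹ = H ∩ G¹`).
-/

set_option autoImplicit false
set_option maxRecDepth 100000

namespace Cfsg.Agent.Helper18.TwF4

open Cfsg Cfsg.Lie Cfsg.Agent.Helper18 Cfsg.Agent.Helper18.Aut Cfsg.Agent.Helper19.Twist
  Cfsg.Agent.Helper19.Poinc Cfsg.Agent.Helper19.Cox Cfsg.Agent.Helper6 Cfsg.Agent.S1080
  Cfsg.Agent.Helper18.Sub Cfsg.Agent.Helper36.F4Class Cfsg.Agent.Helper36.SigmaF4
  Cfsg.Agent.Helper36.SigmaChev Cfsg.Agent.Helper36.B2Class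

variable {K : Type*} [Field K] [CharP K 2] [Fintype K] {m : ℕ}

local notation "x18" => Cfsg.Agent.Helper18.xGL chevF4 K

section auxTO

omit [CharP K 2] [Fintype K] in
/-- the entries of an element of `H` as monomials in four parameters -/
theorem ent_eq_prod_TO (k : GL chevF4.Idx K) (hk : k ∈ chevF4.diagonalSubgroup K) :
    ∃ c : ℕ → K, (∀ i < 4, c i ≠ 0) ∧ ∀ r < 48, ent r k =
      c 0 ^ chevF4.cartan 0 r * c 1 ^ chevF4.cartan 1 r * c 2 ^ chevF4.cartan 2 r *
        c 3 ^ chevF4.cartan 3 r := by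
  obtain ⟨c, hc, hhc⟩ := Cfsg.Agent.S1034.result (F := K) chevF4 hF4 k hk
  have hprod : (k : Matrix chevF4.Idx chevF4.Idx K) = Cfsg.Agent.Helper18.hProd chevF4 K c := by
    rw [hhc]
    exact Cfsg.Agent.Helper18.hProd_of_words chevF4 hF4 c hc
  refine ⟨c, hc, fun r hr => ?_⟩
  have hr' : r < chevF4.nroots := hr
  unfold ent
  rw [dif_pos hr', hprod]
  unfold Cfsg.Agent.Helper18.hProd
  rw [Matrix.diagonal_apply_eq]
  show ((List.range 4).map fun i => c i ^ chevF4.cartan i r).prod = _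
  simp [List.range_succ, mul_assoc]

omit [CharP K 2] [Fintype K] in
/-- multiplicativity of the character of an element of `H` on a sum of two roots -/
theorem ent_add_TO (k : GL chevF4.Idx K) (hk : k ∈ chevF4.diagonalSubgroup K) (r s rs : ℕ)
    (hr : r < 48) (hs : s < 48) (hrs : rs < 48)
    (hc : ∀ i < 4, chevF4.cartan i rs = chevF4.cartan i r + chevF4.cartan i s) :
    ent rs k = ent r k * ent s k := by
  obtain ⟨c, hc0, hent⟩ := ent_eq_prod_TO k hk
  rw [hent r hr, hent s hs, hent rs hrs, hc 0 (by norm_num), hc 1 (by norm_num), hc 2 (by norm_num),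
    hc 3 (by norm_num), zpow_add₀ (hc0 0 (by norm_num)), zpow_add₀ (hc0 1 (by norm_num)),
    zpow_add₀ (hc0 2 (by norm_num)), zpow_add₀ (hc0 3 (by norm_num))]
  ring

/-- the constraints on the entries of an element of `T¹` -/
theorem ent_twisted_TO (hK : Fintype.card K = 2 ^ (2 * m + 1)) (h : GL chevF4.Idx K)
    (hG : h ∈ twistedF4 K (2 ^ m)) (hh : h ∈ chevF4.diagonalSubgroup K) (r : ℕ) (hr : r < 48) :
    ent (Cfsg.Agent.Helper36.SigmaF4.rho r) h = cF m r (ent r h) := by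
  obtain ⟨σ, hσ⟩ := exists_sigma (K := K) hK
  exact ent_rho hσ h hh (twisted_le_FixG hK hσ hG) r hr

end auxTO

/-- PIECE TO-1: the action of `T¹` on `x_P(t)`.
Hint: `conj_ent` on the two factors `x_{33}(φ t) x_{24}(t)`; `ent 33 h` and `ent 24 h` are tied by `ent_rho`
(`rho 33 = 24`, `cF m 33 = (φ ·)^2`, `rho 24 = 33`, `cF m 24 = φ`): `ent 33 h = φ (ent 24 h)`. -/
theorem T_conj_xP (hK : Fintype.card K = 2 ^ (2 * m + 1)) (h : ↥(twistedF4 K (2 ^ m)))
    (hh : (h : GL chevF4.Idx K) ∈ chevF4.diagonalSubgroup K) (t : K) :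
    h * xP m t * h⁻¹ = xP m (ent 24 (h : GL chevF4.Idx K) * t) := by
  apply Subtype.ext
  have e33 : ent 33 (h : GL chevF4.Idx K) = phi m (ent 24 (h : GL chevF4.Idx K)) := by
    have := ent_twisted_TO hK _ h.2 hh 24 (by norm_num)
    rw [show Cfsg.Agent.Helper36.SigmaF4.rho 24 = 33 by decide, cF_long' m 24 (by decide)] at this
    exact this
  rw [Subgroup.coe_mul, Subgroup.coe_mul, Subgroup.coe_inv, xP_coe, xP_coe, PpG_val, PpG_val]
  unfold Cfsg.Agent.Helper36.TwistF4.Pp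
  rw [← x18_eq 33, ← x18_eq 24]
  calc (h : GL chevF4.Idx K) * (x18 33 (phi m t) * x18 24 t) * (h : GL chevF4.Idx K)⁻¹
      = ((h : GL chevF4.Idx K) * x18 33 (phi m t) * (h : GL chevF4.Idx K)⁻¹) *
          ((h : GL chevF4.Idx K) * x18 24 t * (h : GL chevF4.Idx K)⁻¹) := by group
    _ = x18 33 (phi m (ent 24 (h : GL chevF4.Idx K) * t)) *
          x18 24 (ent 24 (h : GL chevF4.Idx K) * t) := by
        rw [conj_ent _ hh 33 (by decide), conj_ent _ hh 24 (by decide), e33, map_mul]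

/-- PIECE TO-2: the action of `T¹` on `x_S(t, u)`.
Hint: `conj_ent` on the four factors of `BpG_val`/`Bp`/`beta`/`nf` (compare `hT_Bp` in `Helper36/TwistF4.lean`);
`ent 27 h = φ (ent 25 h)`, `ent 28 h = ent 27 h * ent 25 h`, `ent 30 h = (ent 27 h)^2 * ent 25 h` (`ent_rho`, and the
multiplicativity of the character on sums of roots: `Cfsg.Agent.Helper36.TorusChar` / `ent_char`). -/
theorem T_conj_xS (hK : Fintype.card K = 2 ^ (2 * m + 1)) (h : ↥(twistedF4 K (2 ^ m)))
    (hh : (h : GL chevF4.Idx K) ∈ chevF4.diagonalSubgroup K) (t u : K) :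
    h * xS m t u * h⁻¹ =
      xS m (ent 25 (h : GL chevF4.Idx K) * t)
        (phi m (ent 25 (h : GL chevF4.Idx K)) * ent 25 (h : GL chevF4.Idx K) * u) := by
  apply Subtype.ext
  set κ : K := ent 25 (h : GL chevF4.Idx K) with hκ
  have e27 : ent 27 (h : GL chevF4.Idx K) = phi m κ := by
    have := ent_twisted_TO hK _ h.2 hh 25 (by norm_num)
    rw [show Cfsg.Agent.Helper36.SigmaF4.rho 25 = 27 by decide, cF_long' m 25 (by decide)] at this
    exact this
  have e28 : ent 28 (h : GL chevF4.Idx K) = phi m κ * κ := by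
    rw [ent_add_TO _ hh 27 25 28 (by norm_num) (by norm_num) (by norm_num) (by decide), e27]
  have e29 : ent 30 (h : GL chevF4.Idx K) = phi m κ * (phi m κ * κ) := by
    rw [ent_add_TO _ hh 27 28 30 (by norm_num) (by norm_num) (by norm_num) (by decide), e27, e28]
  rw [Subgroup.coe_mul, Subgroup.coe_mul, Subgroup.coe_inv, xS_coe, xS_coe, BpG_val, BpG_val]
  unfold Cfsg.Agent.Helper36.TwistF4.Bp beta nf
  rw [← x18_eq 27, ← x18_eq 25, ← x18_eq 28, ← x18_eq 30]
  rw [Cfsg.Agent.Helper36.TwistF4.conj4, conj_ent _ hh 27 (by decide), conj_ent _ hh 25 (by decide),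
    conj_ent _ hh 28 (by decide), conj_ent _ hh 30 (by decide), e27, e28, e29, ← hκ]
  have hφφ := phi_phi hK κ
  have e1 : phi m κ * phi m t = phi m (κ * t) := by rw [map_mul]
  have e3 : phi m κ * κ * (phi m t * t + u) = phi m (κ * t) * (κ * t) + phi m κ * κ * u := by
    rw [map_mul]; ring
  have e4 : phi m κ * (phi m κ * κ) * phi m u ^ 2 = phi m (phi m κ * κ * u) ^ 2 := by
    rw [map_mul, map_mul, mul_pow, mul_pow, hφφ]
    ring
  rw [e1, e3, e4]

/-- PIECE TO-3: `(ent 24, ent 25) : T¹ → K* × K*` is onto.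
Hint: `entPair_injective` and `card_torus` (`Helper36/F4Torus.lean`) make `entPair` (entries at `33`, `27`) bijective;
`ent 24 = (φ (ent 33))^2`, `ent 25 = (φ (ent 27))^2` (`ent_rho`) and `x ↦ (φ x)^2` is a bijection of `K` (`phi_phi`). -/
theorem exists_torus (hK : Fintype.card K = 2 ^ (2 * m + 1)) (a b : K) (ha : a ≠ 0) (hb : b ≠ 0) :
    ∃ h : ↥(twistedF4 K (2 ^ m)), (h : GL chevF4.Idx K) ∈ chevF4.diagonalSubgroup K ∧
      ent 24 (h : GL chevF4.Idx K) = a ∧ ent 25 (h : GL chevF4.Idx K) = b := by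
  obtain ⟨σ, hσ⟩ := exists_sigma (K := K) hK
  have hinj := entPair_injective hK hσ
  have hcard : Nat.card ↥(chevF4.diagonalSubgroup K ⊓ twistedF4 K (2 ^ m)) = Nat.card (Kˣ × Kˣ) := by
    rw [card_torus hK hσ, Nat.card_prod, Nat.card_units, Nat.card_eq_fintype_card, hK, pow_two]
  have : Finite (Kˣ × Kˣ) := inferInstance
  have hbij : Function.Bijective (entPair (K := K) m) :=
    (Nat.bijective_iff_injective_and_card _).mpr ⟨hinj, hcard⟩
  have hφa : phi m a ≠ 0 := (map_ne_zero _).mpr ha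
  have hφb : phi m b ≠ 0 := (map_ne_zero _).mpr hb
  obtain ⟨k, hk⟩ := hbij.2 (Units.mk0 (phi m a) hφa, Units.mk0 (phi m b) hφb)
  have h33 : ent 33 (k : GL chevF4.Idx K) = phi m a := by
    have := congrArg (fun p : Kˣ × Kˣ => (p.1 : K)) hk
    simpa [entPair] using this
  have h27 : ent 27 (k : GL chevF4.Idx K) = phi m b := by
    have := congrArg (fun p : Kˣ × Kˣ => (p.2 : K)) hk
    simpa [entPair] using this
  refine ⟨⟨(k : GL chevF4.Idx K), k.2.2⟩, k.2.1, ?_, ?_⟩
  · have := ent_twisted_TO hK _ k.2.2 k.2.1 33 (by norm_num)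
    rw [show Cfsg.Agent.Helper36.SigmaF4.rho 33 = 24 by decide, cF_short' m 33 (by decide), h33, phi_phi hK] at this
    exact this
  · have := ent_twisted_TO hK _ k.2.2 k.2.1 27 (by norm_num)
    rw [show Cfsg.Agent.Helper36.SigmaF4.rho 27 = 25 by decide, cF_short' m 27 (by decide), h27, phi_phi hK] at this
    exact this

omit [CharP K 2] [Fintype K] in
/-- PIECE TO-4: the action of the reflection `w_0 = w_{p₁} w_{p₄}` on the torus: `ent 25 (s h s⁻¹) = ent 24 h * ent 25 h`.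
Hint: `ent_conj` with the word `[0, 3]` and the root `s' = p₃ + p₄` (`actW reflTabsF4 4 48 [0, 3] s' = 25`, `decide`),
and `ent (p₃ + p₄) h = ent 25 h * ent 24 h` (multiplicativity of the character on root sums). -/
theorem ent_weyl (s : GL chevF4.Idx K) (hsN : s ∈ chevF4.monomialSubgroup K)
    (hθ : thetaF4 ⟨s, hsN⟩ = gp Cfsg.Agent.Helper19.Poinc.certF4.M [0, 3]) (h : GL chevF4.Idx K)
    (hh : h ∈ chevF4.diagonalSubgroup K) :
    ent 25 (s * h * s⁻¹) = ent 24 h * ent 25 h := by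
  obtain ⟨-, hc2⟩ := ent_conj s hsN [0, 3] hθ h hh 26 (by norm_num)
  rw [show actW Cfsg.Agent.Helper18.reflTabsF4 4 48 [0, 3] 26 = 25 by decide] at hc2
  rw [hc2, ent_add_TO h hh 24 25 26 (by norm_num) (by norm_num) (by norm_num) (by decide)]

omit [CharP K 2] [Fintype K] in
/-- PIECE TO-5: `H` is commutative (diagonal matrices: `ent_char`) -/
theorem diag_comm (h h' : GL chevF4.Idx K) (hh : h ∈ chevF4.diagonalSubgroup K)
    (hh' : h' ∈ chevF4.diagonalSubgroup K) : h * h' = h' * h := by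
  obtain ⟨χ, -, h2, -, -⟩ := ent_char h hh
  obtain ⟨χ', -, h2', -, -⟩ := ent_char h' hh'
  apply Units.ext
  rw [Units.val_mul, Units.val_mul, h2, h2', Matrix.diagonal_mul_diagonal,
    Matrix.diagonal_mul_diagonal]
  congr 1
  funext j
  exact mul_comm _ _

omit [CharP K 2] [Fintype K] in
/-- `H` normalises every `listSubgroup` -/
theorem diag_conj_listSubgroup_TO (h : GL chevF4.Idx K) (hh : h ∈ chevF4.diagonalSubgroup K)
    (P : List ℕ) (hP : ∀ r ∈ P, r < 48) (y : GL chevF4.Idx K) (hy : y ∈ listSubgroup chevF4 K P) :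
    h * y * h⁻¹ ∈ listSubgroup chevF4 K P := by
  have htri := triOK_of_mem chevF4 hF4
  unfold listSubgroup at hy ⊢
  induction hy using Subgroup.closure_induction with
  | mem g hg =>
    obtain ⟨r, t, hr, hgm⟩ := hg
    have e1 : g = x18 r t := Units.ext (by rw [hgm, xGL_val chevF4 _ htri])
    rw [e1, conj_ent h hh r (hP r hr)]
    apply Subgroup.subset_closure
    exact ⟨r, _, hr, xGL_val chevF4 _ htri r _⟩
  | one =>
    rw [mul_one, mul_inv_cancel]
    exact one_mem _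
  | mul a b _ _ iha ihb =>
    have : h * (a * b) * h⁻¹ = (h * a * h⁻¹) * (h * b * h⁻¹) := by group
    rw [this]
    exact mul_mem iha ihb
  | inv a _ iha =>
    have : h * a⁻¹ * h⁻¹ = (h * a * h⁻¹)⁻¹ := by group
    rw [this]
    exact inv_mem iha

omit [CharP K 2] [Fintype K] in
/-- PIECE TO-6: `T¹` normalises the negative fundamental root subgroups.
Hint: in the ambient group `H` normalises every root subgroup (`cjg_diag_rootSubgroup`, `Helper18/Aut/ChevGL.lean`, or
`conj_ent`: `h x_r(t) h⁻¹ = x_r(ent r h * t)`), hence every `listSubgroup` (closure of root elements: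
`Subgroup.closure_induction` / `Subgroup.map_le_iff_le_comap` + `Subgroup.closure_le`). -/
theorem T_norm_Xm (h : ↥(twistedF4 K (2 ^ m))) (hh : (h : GL chevF4.Idx K) ∈ chevF4.diagonalSubgroup K)
    (a : Fin 2) (y : ↥(twistedF4 K (2 ^ m))) (hy : y ∈ Xm K m a) : h * y * h⁻¹ ∈ Xm K m a := by
  unfold Xm at hy ⊢
  rw [Subgroup.mem_subgroupOf] at hy ⊢
  rw [Subgroup.coe_mul, Subgroup.coe_mul, Subgroup.coe_inv]
  apply diag_conj_listSubgroup_TO _ hh _ _ _ hy
  intro r hr
  unfold XF4m at hr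
  fin_cases a
  · simp at hr
    omega
  · simp at hr
    omega

end Cfsg.Agent.Helper18.TwF4
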