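import Cfsg.Agent.Helper18.TwF4.L1
import Cfsg.Agent.Helper18.TwF4.P_Param
import Cfsg.Agent.Helper18.TwF4.P_Torus
import Cfsg.Agent.Helper18.TwF4.P_FieldTw
import Cfsg.Agent.Helper18.TwF4.P_Field
import Cfsg.Agent.S1036
import Cfsg.Agent.S1038

/-!
Helper18: the automorphisms of the Ree groups `²F₄(q)`, `q = 2^(2m+1)`, `m ≥ 1`: every automorphism is the product of
an inner and a field automorphism; a field automorphism which is inner is trivial.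
-/

set_option autoImplicit false
set_option maxRecDepth 100000

namespace Cfsg.Agent.Helper18.TwF4

open Cfsg Cfsg.Lie Cfsg.Agent.Helper18 Cfsg.Agent.Helper18.Aut Cfsg.Agent.Helper19.Twist
  Cfsg.Agent.Helper19.Poinc Cfsg.Agent.Helper19.Cox Cfsg.Agent.Helper6 Cfsg.Agent.S1080
  Cfsg.Agent.Helper18.Sub Cfsg.Agent.Helper36.F4Class Cfsg.Agent.Helper36.SigmaF4
  Cfsg.Agent.Helper36.SigmaChev Cfsg.Agent.Helper36.B2Class

section

variable {K : Type*} [Field K] [CharP K 2] [Fintype K] {m : ℕ}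

omit [CharP K 2] [Fintype K] in
theorem mem_T1 (t : ↥(twistedF4 K (2 ^ m))) : t ∈ T1 K m ↔ (t : GL chevF4.Idx K) ∈ chevF4.diagonalSubgroup K :=
  Subgroup.mem_subgroupOf

omit [CharP K 2] [Fintype K] in
/-- an element normalising `U¹` and `V¹` lies in the torus -/
theorem mem_T1_of_norm {P : BNPair ↥(twistedF4 K (2 ^ m))} {s : Fin 2 → ↥(twistedF4 K (2 ^ m))} {n₀ : ↥(twistedF4 K (2 ^ m))}
    (H : L1Hyp P 2 (U1 K m) (V1 K m) s (Xp K m) (Xm K m) n₀ id)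
    (hmemB : ∀ b : ↥(twistedF4 K (2 ^ m)), b ∈ P.B ↔ (b : GL chevF4.Idx K) ∈ chevF4.borelSubgroup K)
    (hN0 : (n₀ : GL chevF4.Idx K) ∈ chevF4.monomialSubgroup K)
    (hθ0 : thetaF4 ⟨(n₀ : GL chevF4.Idx K), hN0⟩ = gp Cfsg.Agent.Helper19.Poinc.certF4.M w0word)
    (g : ↥(twistedF4 K (2 ^ m))) (hU : cjg g (U1 K m) = U1 K m) (hV : cjg g (V1 K m) = V1 K m) : g ∈ T1 K m := by
  rw [mem_T1]
  have h1 : g ∈ P.B := H.normalizer_eq g hU
  have h2 : n₀⁻¹ * g * n₀ ∈ P.B := by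
    apply H.normalizer_eq
    rw [cjg_mul, cjg_mul, H.n0_U, hV, ← H.n0_U, cjg_inv_cjg]
  refine mem_diag_of_conj_theta (n₀ : GL chevF4.Idx K) hN0 hθ0 _ ((hmemB g).mp h1) ?_
  exact (hmemB _).mp h2

omit [CharP K 2] [Fintype K] in
/-- the torus normalises `U¹` and `V¹` -/
theorem T1_norm (t : ↥(twistedF4 K (2 ^ m))) (ht : t ∈ T1 K m) : cjg t (U1 K m) = U1 K m ∧ cjg t (V1 K m) = V1 K m := by
  rw [mem_T1] at ht
  constructor
  · exact U_norm_F4 t (diagonal_le_borel chevF4 hF4 ht)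
  · unfold V1
    rw [cjg_subgroupOf, cjg_diag_neg chevF4 hF4 _ ht]

omit [CharP K 2] [Fintype K] in
/-- an automorphism stabilising `U¹` stabilises `B¹` -/
theorem aut_B {P : BNPair ↥(twistedF4 K (2 ^ m))} {s : Fin 2 → ↥(twistedF4 K (2 ^ m))} {n₀ : ↥(twistedF4 K (2 ^ m))}
    (H : L1Hyp P 2 (U1 K m) (V1 K m) s (Xp K m) (Xm K m) n₀ id) (ψ : ↥(twistedF4 K (2 ^ m)) ≃* ↥(twistedF4 K (2 ^ m)))
    (hU : im ψ (U1 K m) = U1 K m) (b : ↥(twistedF4 K (2 ^ m))) (hb : b ∈ P.B) : ψ b ∈ P.B := by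
  apply H.normalizer_eq
  have := im_cjg ψ b (U1 K m)
  rw [H.U_norm b hb, hU] at this
  exact this.symm

omit [CharP K 2] [Fintype K] in
/-- an automorphism stabilising `U¹` and `V¹` stabilises the torus -/
theorem aut_T1 {P : BNPair ↥(twistedF4 K (2 ^ m))} {s : Fin 2 → ↥(twistedF4 K (2 ^ m))} {n₀ : ↥(twistedF4 K (2 ^ m))}
    (H : L1Hyp P 2 (U1 K m) (V1 K m) s (Xp K m) (Xm K m) n₀ id)
    (hmemB : ∀ b : ↥(twistedF4 K (2 ^ m)), b ∈ P.B ↔ (b : GL chevF4.Idx K) ∈ chevF4.borelSubgroup K)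
    (hN0 : (n₀ : GL chevF4.Idx K) ∈ chevF4.monomialSubgroup K)
    (hθ0 : thetaF4 ⟨(n₀ : GL chevF4.Idx K), hN0⟩ = gp Cfsg.Agent.Helper19.Poinc.certF4.M w0word)
    (ψ : ↥(twistedF4 K (2 ^ m)) ≃* ↥(twistedF4 K (2 ^ m))) (hU : im ψ (U1 K m) = U1 K m) (hV : im ψ (V1 K m) = V1 K m)
    (t : ↥(twistedF4 K (2 ^ m))) (ht : t ∈ T1 K m) : ψ t ∈ T1 K m := by
  obtain ⟨h1, h2⟩ := T1_norm t ht
  apply mem_T1_of_norm H hmemB hN0 hθ0
  · have := im_cjg ψ t (U1 K m)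
    rw [h1, hU] at this
    exact this.symm
  · have := im_cjg ψ t (V1 K m)
    rw [h2, hV] at this
    exact this.symm

omit [CharP K 2] [Fintype K] in
theorem fieldTw_symm_apply (τ : K ≃+* K) (x : ↥(twistedF4 K (2 ^ m))) : (fieldTw (2 ^ m) τ).symm x = fieldTw (2 ^ m) τ.symm x := rfl

omit [CharP K 2] [Fintype K] in
/-- field automorphisms stabilise `U¹` -/
theorem fieldTw_U1 (τ : K ≃+* K) : im (fieldTw (2 ^ m) τ) (U1 K m) = U1 K m := by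
  have key : ∀ (τ : K ≃+* K) (x : ↥(twistedF4 K (2 ^ m))), x ∈ U1 K m → fieldTw (2 ^ m) τ x ∈ U1 K m := by
    intro τ x hx
    unfold U1 at hx ⊢
    rw [Subgroup.mem_subgroupOf] at hx ⊢
    rw [fieldTw_coe]
    exact glEquiv_pos chevF4 hF4 τ _ hx
  ext x
  rw [mem_im, fieldTw_symm_apply]
  constructor
  · intro hx
    have := key τ _ hx
    rwa [← fieldTw_symm_apply, MulEquiv.apply_symm_apply] at this
  · exact key τ.symm x

omit [CharP K 2] [Fintype K] in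
/-- field automorphisms stabilise `V¹` -/
theorem fieldTw_V1 (τ : K ≃+* K) : im (fieldTw (2 ^ m) τ) (V1 K m) = V1 K m := by
  have key : ∀ (τ : K ≃+* K) (x : ↥(twistedF4 K (2 ^ m))), x ∈ V1 K m → fieldTw (2 ^ m) τ x ∈ V1 K m := by
    intro τ x hx
    unfold V1 at hx ⊢
    rw [Subgroup.mem_subgroupOf] at hx ⊢
    rw [fieldTw_coe]
    exact glEquiv_neg chevF4 hF4 τ _ hx
  ext x
  rw [mem_im, fieldTw_symm_apply]
  constructor
  · intro hx
    have := key τ _ hx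
    rwa [← fieldTw_symm_apply, MulEquiv.apply_symm_apply] at this
  · exact key τ.symm x

/-- field automorphisms stabilise the negative fundamental root subgroups -/
theorem fieldTw_Xm (hK : Fintype.card K = 2 ^ (2 * m + 1)) (τ : K ≃+* K) (a : Fin 2) (y : ↥(twistedF4 K (2 ^ m)))
    (hy : y ∈ Xm K m a) : fieldTw (2 ^ m) τ y ∈ Xm K m a := by
  fin_cases a
  · obtain ⟨t, rfl⟩ := (mem_Xm0 hK y).mp hy
    rw [fieldTw_yP]
    exact (mem_Xm0 hK _).mpr ⟨_, rfl⟩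
  · obtain ⟨t, u, rfl⟩ := (mem_Xm1 hK y).mp hy
    rw [fieldTw_yS]
    exact (mem_Xm1 hK _).mpr ⟨_, _, rfl⟩

theorem xP_zero : xP m (0 : K) = 1 := by
  have h := xP_add (m := m) (0 : K) 0
  rw [add_zero] at h
  calc xP m (0 : K) = xP m 0 * xP m 0 * (xP m 0)⁻¹ := by group
    _ = xP m 0 * (xP m 0)⁻¹ := by rw [← h]
    _ = 1 := mul_inv_cancel _

/-- Steinberg's theorem for `²F₄(q)`: every automorphism is inner times field -/
theorem aut_twF4 (hm : 1 ≤ m) (hK : Fintype.card K = 2 ^ (2 * m + 1))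
    (θ : ↥(twistedF4 K (2 ^ m)) ≃* ↥(twistedF4 K (2 ^ m))) :
    ∃ (g : ↥(twistedF4 K (2 ^ m))) (τ : K ≃+* K), ∀ x, θ x = g * fieldTw (2 ^ m) τ x * g⁻¹ := by
  haveI : Fact (Nat.Prime 2) := ⟨Nat.prime_two⟩
  obtain ⟨P, s, n₀, hmemB, hmemN, hs, ⟨hN0, hθ0⟩, H, hR⟩ := twF4_L1Hyp (m := m) hK
  obtain ⟨g₁, π, hU₁, hV₁, hπ⟩ := Cfsg.Agent.Helper18.TwF4.L1Hyp.main' H θ
  set θ₁ := θ.trans (MulAut.conj g₁) with hθ₁
  obtain ⟨b₀, hb₀⟩ := exists_phi_ne (K := K) hm hK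
  -- the permutation is trivial: `X_0` is commutative, `X_1` is not
  have hab0 : ∀ x ∈ Xp K m 0, ∀ y ∈ Xp K m 0, x * y = y * x := by
    intro x hx y hy
    obtain ⟨t, rfl⟩ := (mem_Xp0 hK x).mp hx
    obtain ⟨t', rfl⟩ := (mem_Xp0 hK y).mp hy
    rw [← xP_add, ← xP_add, add_comm]
  have hnab1 : ∃ x ∈ Xp K m 1, ∃ y ∈ Xp K m 1, x * y ≠ y * x := by
    refine ⟨xS m 1 0, (mem_Xp1 hK _).mpr ⟨_, _, rfl⟩, xS m b₀ 0, (mem_Xp1 hK _).mpr ⟨_, _, rfl⟩, ?_⟩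
    rw [xS_mul hK, xS_mul hK]
    intro h
    have h2 := (xS_inj _ _ _ _ h).2
    apply hb₀
    simpa using h2.symm
  have hπ0 : π 0 = 0 := by
    by_contra hne
    have h1 : π 0 = 1 := by
      have := Fin.exists_fin_two.mp ⟨π 0, rfl⟩
      rcases this with h | h
      · exact absurd h hne
      · exact h
    have h2 := (hπ 0).1
    rw [h1] at h2
    obtain ⟨x, hx, y, hy, hxy⟩ := hnab1
    apply hxy
    rw [← h2, mem_im] at hx hy
    have h3 := hab0 _ hx _ hy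
    have h4 := congrArg θ₁ h3
    simpa using h4
  have hπ1 : π 1 = 1 := by
    by_contra hne
    have h1 : π 1 = 0 := by
      have := Fin.exists_fin_two.mp ⟨π 1, rfl⟩
      rcases this with h | h
      · exact h
      · exact absurd h hne
    have := π.injective (h1.trans hπ0.symm)
    exact absurd this (by decide)
  have hA := hπ 0
  have hB := hπ 1
  rw [hπ0] at hA
  rw [hπ1] at hB
  have himg : ∀ (S : Subgroup ↥(twistedF4 K (2 ^ m))) (x : ↥(twistedF4 K (2 ^ m))),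
      im θ₁ S = S → x ∈ S → θ₁ x ∈ S := by
    intro S x hS hx
    rw [← hS, mem_im]
    simpa using hx
  have himg' : ∀ (S : Subgroup ↥(twistedF4 K (2 ^ m))) (x : ↥(twistedF4 K (2 ^ m))),
      im θ₁ S = S → x ∈ S → θ₁.symm x ∈ S := by
    intro S x hS hx
    rw [← hS] at hx
    exact mem_im.mp hx
  -- `θ₁` stabilises `B¹` and the torus
  have hθB : ∀ b ∈ P.B, θ₁ b ∈ P.B := aut_B H θ₁ hU₁
  have hθT : ∀ t ∈ T1 K m, θ₁ t ∈ T1 K m := aut_T1 H hmemB hN0 hθ0 θ₁ hU₁ hV₁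
  have hU₁' : im θ₁.symm (U1 K m) = U1 K m := by
    have := im_symm_im θ₁ (U1 K m)
    rwa [hU₁] at this
  have hV₁' : im θ₁.symm (V1 K m) = V1 K m := by
    have := im_symm_im θ₁ (V1 K m)
    rwa [hV₁] at this
  have hθT' : ∀ t ∈ T1 K m, θ₁.symm t ∈ T1 K m := aut_T1 H hmemB hN0 hθ0 θ₁.symm hU₁' hV₁'
  -- the abelian root subgroup
  have hXa : ∀ t, ∃ t', θ₁ (xP m t) = xP m t' :=
    fun t => (mem_Xp0 hK _).mp (himg _ _ hA.1 ((mem_Xp0 hK _).mpr ⟨t, rfl⟩))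
  choose α hα using hXa
  have hαadd : ∀ s t, α (s + t) = α s + α t := by
    intro s t
    apply xP_inj (m := m)
    rw [← hα, xP_add, map_mul, hα, hα, xP_add]
  have hαinj : Function.Injective α := by
    intro s t hst
    apply xP_inj (m := m)
    apply θ₁.injective
    rw [hα, hα, hst]
  have hαbij : Function.Bijective α := Finite.injective_iff_bijective.mp hαinj
  have hconjP : ∀ (g : ↥(twistedF4 K (2 ^ m))), g ∈ T1 K m → ∀ t,
      α (ent 24 (g : GL chevF4.Idx K) * t) = ent 24 ((θ₁ g : ↥(twistedF4 K (2 ^ m))) : GL chevF4.Idx K) * α t := by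
    intro g hg t
    apply xP_inj (m := m)
    rw [← hα, ← T_conj_xP hK g ((mem_T1 g).mp hg) t, map_mul, map_mul, map_inv, hα,
      T_conj_xP hK (θ₁ g) ((mem_T1 _).mp (hθT g hg))]
  obtain ⟨c₀, τ₀, hc₀, hα', hκ0⟩ := torus_char α hαadd hαbij
    (fun g : {g : ↥(twistedF4 K (2 ^ m)) // g ∈ T1 K m} => ent 24 ((g : ↥(twistedF4 K (2 ^ m))) : GL chevF4.Idx K))
    (fun g : {g : ↥(twistedF4 K (2 ^ m)) // g ∈ T1 K m} =>
      ent 24 ((θ₁ (g : ↥(twistedF4 K (2 ^ m))) : ↥(twistedF4 K (2 ^ m))) : GL chevF4.Idx K))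
    (by
      intro y hy
      obtain ⟨h, hh, e1, -⟩ := exists_torus (m := m) hK y 1 hy one_ne_zero
      exact ⟨⟨h, (mem_T1 h).mpr hh⟩, e1⟩)
    (fun g t => hconjP g.1 g.2 t)
  -- the root subgroup of Suzuki type
  have hXb : ∀ t u, ∃ t' u', θ₁ (xS m t u) = xS m t' u' :=
    fun t u => (mem_Xp1 hK _).mp (himg _ _ hB.1 ((mem_Xp1 hK _).mpr ⟨t, u, rfl⟩))
  have hXb' : ∀ t u, ∃ t' u', θ₁ (xS m t' u') = xS m t u := by
    intro t u
    obtain ⟨t', u', e⟩ := (mem_Xp1 hK _).mp (himg' _ _ hB.1 ((mem_Xp1 hK _).mpr ⟨t, u, rfl⟩))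
    exact ⟨t', u', by rw [← e, MulEquiv.apply_symm_apply]⟩
  obtain ⟨c₁, τ₁, hc₁, hβ, hκ1⟩ := suz_aut (phi (K := K) m) (2 ^ m) (phi_apply m)
    (fun y hy => norm_surj hK y hy) ⟨b₀, hb₀⟩ (xS m) (xS_mul hK) xS_inj θ₁ hXb hXb'
    (fun g : {g : ↥(twistedF4 K (2 ^ m)) // g ∈ T1 K m} => ent 25 ((g : ↥(twistedF4 K (2 ^ m))) : GL chevF4.Idx K))
    (fun g : {g : ↥(twistedF4 K (2 ^ m)) // g ∈ T1 K m} =>
      ent 25 ((θ₁ (g : ↥(twistedF4 K (2 ^ m))) : ↥(twistedF4 K (2 ^ m))) : GL chevF4.Idx K))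
    (by
      intro y hy
      obtain ⟨h, hh, -, e2⟩ := exists_torus (m := m) hK 1 y one_ne_zero hy
      exact ⟨⟨h, (mem_T1 h).mpr hh⟩, e2⟩)
    (by
      intro g t u t' u' e
      rw [← T_conj_xS hK g.1 ((mem_T1 _).mp g.2) t u, map_mul, map_mul, map_inv, e,
        T_conj_xS hK (θ₁ g.1) ((mem_T1 _).mp (hθT g.1 g.2))])
  -- the two field automorphisms agree
  obtain ⟨hs0N, hs0θ⟩ := hs 0
  have hHN : chevF4.diagonalSubgroup K ≤ chevF4.monomialSubgroup K := le_sup_left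
  have hsT : ∀ t ∈ T1 K m, s 0 * t * (s 0)⁻¹ ∈ T1 K m := by
    intro t ht
    rw [mem_T1] at ht ⊢
    have hn : ((chevF4.diagonalSubgroup K).subgroupOf (chevF4.monomialSubgroup K)).Normal :=
      Cfsg.Agent.S1038.result chevF4 hF4
    have h1 : (⟨(t : GL chevF4.Idx K), hHN ht⟩ : ↥(chevF4.monomialSubgroup K)) ∈
        (chevF4.diagonalSubgroup K).subgroupOf (chevF4.monomialSubgroup K) := Subgroup.mem_subgroupOf.mpr ht
    have h2 := hn.conj_mem _ h1 ⟨((s 0 : ↥(twistedF4 K (2 ^ m))) : GL chevF4.Idx K), hs0N⟩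
    exact Subgroup.mem_subgroupOf.mp h2
  have hw := (hR 0).weyl_act (T1 K m)
    (fun t ht => (hmemB t).mpr (diagonal_le_borel chevF4 hF4 ((mem_T1 t).mp ht)))
    (by
      ext x
      rw [Subgroup.mem_inf, Subgroup.mem_bot]
      constructor
      · rintro ⟨h1, h2⟩
        have : (x : GL chevF4.Idx K) ∈ chevF4.posUnipotent K ⊓ chevF4.diagonalSubgroup K :=
          Subgroup.mem_inf.mpr ⟨Subgroup.mem_subgroupOf.mp h2, (mem_T1 x).mp h1⟩
        rw [(Cfsg.Agent.S1036.result (F := K) chevF4 hF4).2, Subgroup.mem_bot] at this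
        exact Subtype.ext this
      · rintro rfl
        exact ⟨one_mem _, one_mem _⟩)
    (fun b hb => B1_decomp_F4 hK b ((hmemB b).mp hb))
    (fun t ht t' ht' => Subtype.ext (diag_comm _ _ ((mem_T1 t).mp ht) ((mem_T1 t').mp ht')))
    (by
      intro t ht x hx
      obtain ⟨t₀, rfl⟩ := (mem_Xp0 hK x).mp hx
      rw [T_conj_xP hK t ((mem_T1 t).mp ht)]
      exact (mem_Xp0 hK _).mpr ⟨_, rfl⟩)
    hsT
    (by
      intro x hx hfix
      obtain ⟨t₀, rfl⟩ := (mem_Xp0 hK x).mp hx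
      have hb0 : b₀ ≠ 0 := by
        rintro rfl
        exact hb₀ (map_zero _)
      have hb1 : b₀ ≠ 1 := by
        rintro rfl
        exact hb₀ (map_one _)
      obtain ⟨h, hh, e1, -⟩ := exists_torus (m := m) hK b₀ 1 hb0 one_ne_zero
      have h1 := hfix h ((mem_T1 h).mpr hh)
      rw [T_conj_xP hK h hh, e1] at h1
      have h2 := xP_inj _ _ h1
      have h3 : (b₀ - 1) * t₀ = 0 := by rw [sub_mul, h2, one_mul, sub_self]
      rcases mul_eq_zero.mp h3 with h4 | h4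
      · exact absurd (sub_eq_zero.mp h4) hb1
      · rw [h4, xP_zero])
    θ₁ hθB hθT hθT' (fun x hx => himg _ _ hA.1 hx) (fun y hy => himg _ _ hA.2 hy)
  have hτ : ∀ a : K, τ₁ a = τ₀ a := by
    intro a
    by_cases ha : a = 0
    · rw [ha, map_zero, map_zero]
    obtain ⟨h, hh, e1, e2⟩ := exists_torus (m := m) hK a 1 ha one_ne_zero
    have hhT : h ∈ T1 K m := (mem_T1 h).mpr hh
    have h1 := hw h hhT
    have h2 := hκ1 ⟨s 0 * h * (s 0)⁻¹, hsT h hhT⟩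
    have h3 := hκ1 ⟨h, hhT⟩
    have h4 := hκ0 ⟨h, hhT⟩
    simp only at h2 h3 h4
    rw [h1] at h2
    have e3 : ((s 0 * θ₁ h * (s 0)⁻¹ : ↥(twistedF4 K (2 ^ m))) : GL chevF4.Idx K) =
        ((s 0 : ↥(twistedF4 K (2 ^ m))) : GL chevF4.Idx K) * ((θ₁ h : ↥(twistedF4 K (2 ^ m))) : GL chevF4.Idx K) *
          ((s 0 : ↥(twistedF4 K (2 ^ m))) : GL chevF4.Idx K)⁻¹ := rfl
    have e4 : ((s 0 * h * (s 0)⁻¹ : ↥(twistedF4 K (2 ^ m))) : GL chevF4.Idx K) =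
        ((s 0 : ↥(twistedF4 K (2 ^ m))) : GL chevF4.Idx K) * (h : GL chevF4.Idx K) *
          ((s 0 : ↥(twistedF4 K (2 ^ m))) : GL chevF4.Idx K)⁻¹ := rfl
    rw [e3, e4, ent_weyl _ hs0N hs0θ _ ((mem_T1 _).mp (hθT h hhT)), ent_weyl _ hs0N hs0θ _ hh, h3, h4, e1, e2,
      map_mul, map_one, mul_one, mul_one] at h2
    exact h2.symm
  -- the diagonal element
  obtain ⟨h, hh, e1, e2⟩ := exists_torus (m := m) hK c₀ c₁ hc₀ hc₁
  have hhT : h ∈ T1 K m := (mem_T1 h).mpr hh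
  set ψ : ↥(twistedF4 K (2 ^ m)) ≃* ↥(twistedF4 K (2 ^ m)) := (fieldTw (2 ^ m) τ₀).trans (MulAut.conj h) with hψ
  have hψapp : ∀ x, ψ x = h * fieldTw (2 ^ m) τ₀ x * h⁻¹ := fun x => rfl
  have hψP : ∀ t, ψ (xP m t) = θ₁ (xP m t) := by
    intro t
    rw [hψapp, fieldTw_xP, T_conj_xP hK h hh, e1, hα, hα']
  have hψS : ∀ t u, ψ (xS m t u) = θ₁ (xS m t u) := by
    intro t u
    rw [hψapp, fieldTw_xS, T_conj_xS hK h hh, e2, hβ, hτ, hτ]
  have hψU : im ψ (U1 K m) = U1 K m := by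
    rw [hψ, im_trans, fieldTw_U1, im_conj, (T1_norm h hhT).1]
  have hψU' : im ψ.symm (U1 K m) = U1 K m := by
    have := im_symm_im ψ (U1 K m)
    rwa [hψU] at this
  set θ₃ : ↥(twistedF4 K (2 ^ m)) ≃* ↥(twistedF4 K (2 ^ m)) := θ₁.trans ψ.symm with hθ₃
  have hθ₃app : ∀ x, θ₃ x = ψ.symm (θ₁ x) := fun x => rfl
  have hψsymm : ∀ x, ψ.symm x = fieldTw (2 ^ m) τ₀.symm (h⁻¹ * x * h) := by
    intro x
    rw [MulEquiv.symm_apply_eq, hψapp, ← fieldTw_symm_apply, MulEquiv.apply_symm_apply]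
    group
  have hθ₃B : ∀ b ∈ P.B, θ₃ b ∈ P.B := fun b hb => aut_B H ψ.symm hψU' _ (hθB b hb)
  have hθ₃m : ∀ a : Fin 2, ∀ y ∈ Xm K m a, θ₃ y ∈ Xm K m a := by
    intro a y hy
    have h1 : θ₁ y ∈ Xm K m a := by
      fin_cases a
      · exact himg _ _ hA.2 hy
      · exact himg _ _ hB.2 hy
    rw [hθ₃app, hψsymm]
    apply fieldTw_Xm hK
    have h2 := T_norm_Xm h⁻¹ ((mem_T1 _).mp (inv_mem hhT)) a _ h1
    rwa [inv_inv] at h2
  have hθ₃P : ∀ t, θ₃ (xP m t) = xP m t := by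
    intro t
    rw [hθ₃app, MulEquiv.symm_apply_eq, hψP]
  have hθ₃S : ∀ t u, θ₃ (xS m t u) = xS m t u := by
    intro t u
    rw [hθ₃app, MulEquiv.symm_apply_eq, hψS]
  have hrig0 := (hR 0).rigid θ₃ hθ₃B
    (by
      intro x hx
      obtain ⟨t, rfl⟩ := (mem_Xp0 hK x).mp hx
      exact hθ₃P t) (hθ₃m 0)
  have hrig1 := (hR 1).rigid θ₃ hθ₃B
    (by
      intro x hx
      obtain ⟨t, u, rfl⟩ := (mem_Xp1 hK x).mp hx
      exact hθ₃S t u) (hθ₃m 1)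
  have hid : θ₃ = MulEquiv.refl _ := by
    apply aut_ext_F4
    · exact hθ₃P
    · intro t
      exact hrig0 _ ((mem_Xm0 hK _).mpr ⟨t, rfl⟩)
    · exact hθ₃S
    · intro t u
      exact hrig1 _ ((mem_Xm1 hK _).mpr ⟨t, u, rfl⟩)
  refine ⟨g₁⁻¹ * h, τ₀, ?_⟩
  intro x
  have h1 : θ₁ x = g₁ * θ x * g₁⁻¹ := rfl
  have h2 : θ₁ x = ψ x := by
    have := congrArg (fun f : ↥(twistedF4 K (2 ^ m)) ≃* ↥(twistedF4 K (2 ^ m)) => f x) hid
    simp only [MulEquiv.refl_apply] at this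
    rw [hθ₃app, MulEquiv.symm_apply_eq] at this
    exact this
  have h3 : θ x = g₁⁻¹ * θ₁ x * g₁ := by rw [h1]; group
  rw [h3, h2, hψapp]
  group

/-- a field automorphism which is inner is trivial -/
theorem fieldTw_not_inner (hK : Fintype.card K = 2 ^ (2 * m + 1)) (τ : K ≃+* K) (g : ↥(twistedF4 K (2 ^ m)))
    (h : ∀ x, fieldTw (2 ^ m) τ x = g * x * g⁻¹) : τ = 1 := by
  haveI : Fact (Nat.Prime 2) := ⟨Nat.prime_two⟩
  obtain ⟨P, s, n₀, hmemB, hmemN, hs, ⟨hN0, hθ0⟩, H, hR⟩ := twF4_L1Hyp (m := m) hK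
  have e : MulAut.conj g = fieldTw (2 ^ m) τ := by
    ext x
    rw [h x]
    rfl
  have hU : cjg g (U1 K m) = U1 K m := by
    rw [← im_conj, e, fieldTw_U1]
  have hV : cjg g (V1 K m) = V1 K m := by
    rw [← im_conj, e, fieldTw_V1]
  have hgT := mem_T1_of_norm H hmemB hN0 hθ0 g hU hV
  have hg := (mem_T1 g).mp hgT
  have key : ∀ t, τ t = ent 24 (g : GL chevF4.Idx K) * t := by
    intro t
    apply xP_inj (m := m)
    rw [← fieldTw_xP, h, T_conj_xP hK g hg]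
  have h1 := key 1
  rw [map_one, mul_one] at h1
  ext t
  rw [key t, ← h1, one_mul]
  rfl

end

end Cfsg.Agent.Helper18.TwF4
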