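import Cfsg.Agent.Helper19.Twist.F4Inst
import Cfsg.Agent.Helper36.F4Order
import Cfsg.Agent.Helper36.F4Torus
import Cfsg.Agent.Helper18.Sub.Frob
import Cfsg.Agent.Helper18.TwF4.Abs
import Cfsg.Agent.Helper18.Aut.ChevInst

/-!
Helper18: automorphisms of the Ree groups `²F₄(q)`, `q = 2^(2m+1)`: notation.
`G¹ = twistedF4 K (2^m)`; `U¹`, `V¹`, `T¹` (torus); the fundamental root subgroups `Xp a`, `Xm a` (`a = 0`: the class
`{p₁, p₄}` of type `A₁ × A₁`, `a = 1`: the class `{p₂, p₃, p₂+p₃, 2p₂+p₃}` of type `B₂`, Suzuki type);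
the root elements `xP t`, `yP t`, `xS t u`, `yS t u` as elements of `G¹`; the field automorphisms of `G¹`.
-/

set_option autoImplicit false
set_option maxRecDepth 100000

namespace Cfsg.Agent.Helper18.TwF4

open Cfsg Cfsg.Lie Cfsg.Agent.Helper18 Cfsg.Agent.Helper18.Aut Cfsg.Agent.Helper19.Twist
  Cfsg.Agent.Helper19.Poinc Cfsg.Agent.Helper19.Cox Cfsg.Agent.Helper6 Cfsg.Agent.S1080
  Cfsg.Agent.Helper18.Sub Cfsg.Agent.Helper36.F4Class Cfsg.Agent.Helper36.SigmaF4
  Cfsg.Agent.Helper36.SigmaChev Cfsg.Agent.Helper36.B2Class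

section

variable (K : Type*) [Field K] (m : ℕ)

/-- `U¹ = U ∩ G¹` as a subgroup of `G¹` -/
noncomputable def U1 : Subgroup ↥(twistedF4 K (2 ^ m)) :=
  (chevF4.posUnipotent K).subgroupOf (twistedF4 K (2 ^ m))

/-- `V¹ = V ∩ G¹` as a subgroup of `G¹` -/
noncomputable def V1 : Subgroup ↥(twistedF4 K (2 ^ m)) :=
  (chevF4.negUnipotent K).subgroupOf (twistedF4 K (2 ^ m))

/-- `T¹ = H ∩ G¹` as a subgroup of `G¹` -/
noncomputable def T1 : Subgroup ↥(twistedF4 K (2 ^ m)) :=
  (chevF4.diagonalSubgroup K).subgroupOf (twistedF4 K (2 ^ m))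

/-- the roots of the negative fundamental classes -/
def XF4m (a : ℕ) : List ℕ := if a = 0 then [14, 23] else [20, 22, 19, 17]

/-- the positive fundamental root subgroups of `G¹` -/
noncomputable def Xp (a : Fin 2) : Subgroup ↥(twistedF4 K (2 ^ m)) :=
  (listSubgroup chevF4 K (XF4 a.val)).subgroupOf (twistedF4 K (2 ^ m))

/-- the negative fundamental root subgroups of `G¹` -/
noncomputable def Xm (a : Fin 2) : Subgroup ↥(twistedF4 K (2 ^ m)) :=
  (listSubgroup chevF4 K (XF4m a.val)).subgroupOf (twistedF4 K (2 ^ m))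

end

section

variable {K : Type*} [Field K] [CharP K 2] [Fintype K] (m : ℕ)

/-- `x_P(t) = x_{p₁}(t^θ) x_{p₄}(t)` in `G¹` -/
noncomputable def xP (t : K) : ↥(twistedF4 K (2 ^ m)) := ⟨_, PpG_mem (m := m) t⟩

/-- `x_{-P}(t) = x_{-p₁}(t^θ) x_{-p₄}(t)` in `G¹` -/
noncomputable def yP (t : K) : ↥(twistedF4 K (2 ^ m)) := ⟨_, PmG_mem (m := m) t⟩

/-- `x_S(t, u)`, the elements of the root subgroup of Suzuki type, in `G¹` -/
noncomputable def xS (t u : K) : ↥(twistedF4 K (2 ^ m)) := ⟨_, BpG_mem (m := m) t u⟩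

/-- `x_{-S}(t, u)` in `G¹` -/
noncomputable def yS (t u : K) : ↥(twistedF4 K (2 ^ m)) := ⟨_, BmG_mem (m := m) t u⟩

theorem xP_coe (t : K) : ((xP m t : ↥(twistedF4 K (2 ^ m))) : GL chevF4.Idx K) =
    ((PpG m t : ↥(chevF4.group K)) : GL chevF4.Idx K) := rfl
theorem yP_coe (t : K) : ((yP m t : ↥(twistedF4 K (2 ^ m))) : GL chevF4.Idx K) =
    ((PmG m t : ↥(chevF4.group K)) : GL chevF4.Idx K) := rfl
theorem xS_coe (t u : K) : ((xS m t u : ↥(twistedF4 K (2 ^ m))) : GL chevF4.Idx K) =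
    ((BpG m t u : ↥(chevF4.group K)) : GL chevF4.Idx K) := rfl
theorem yS_coe (t u : K) : ((yS m t u : ↥(twistedF4 K (2 ^ m))) : GL chevF4.Idx K) =
    ((BmG m t u : ↥(chevF4.group K)) : GL chevF4.Idx K) := rfl

end


section Field

variable {K : Type*} [Field K] {e : ℕ}

/-- a word of the generating set gives an element of the twisted group -/
theorem wordGL_mem_twistedF4 (w : List (ℕ × K)) (hw : w ∈ f4Words K e) : wordGL chevF4 K w ∈ twistedF4 K e := by
  have htri := triOK_of_mem chevF4 hF4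
  unfold twistedF4 ChevalleyDatum.genSubgroup
  apply Subgroup.subset_closure
  exact ⟨w, hw, by rw [wordGL_val chevF4 _ htri]⟩

/-- field automorphisms preserve `²F₄` -/
theorem glEquiv_mem_twistedF4 (τ : K ≃+* K) (g : GL chevF4.Idx K) (hg : g ∈ twistedF4 K e) :
    glEquiv chevF4 τ g ∈ twistedF4 K e := by
  have htri := triOK_of_mem chevF4 hF4
  have hle : twistedF4 K e ≤ (twistedF4 K e).comap (glEquiv chevF4 τ).toMonoidHom := by
    unfold twistedF4 ChevalleyDatum.genSubgroup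
    rw [Subgroup.closure_le]
    rintro g ⟨w, hw, hg⟩
    have e1 : g = wordGL chevF4 K w := Units.ext (by rw [hg, wordGL_val chevF4 _ htri])
    rw [SetLike.mem_coe, Subgroup.mem_comap]
    show glEquiv chevF4 τ g ∈ _
    rw [e1, glEquiv_wordGL chevF4 hF4]
    apply wordGL_mem_twistedF4
    rcases hw with ⟨t, rfl | rfl⟩ | ⟨t, u, rfl | rfl⟩
    · left
      exact ⟨τ t, Or.inl (by simp [f4PairWord, map_pow])⟩
    · left
      exact ⟨τ t, Or.inr (by simp [f4PairWord, map_pow])⟩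
    · right
      exact ⟨τ t, τ u, Or.inl (by simp [b2ClassWord, map_pow])⟩
    · right
      exact ⟨τ t, τ u, Or.inr (by simp [b2ClassWord, map_pow])⟩
  exact hle hg

/-- the field automorphism of `G¹` induced by `τ` -/
noncomputable def fieldTw (e : ℕ) (τ : K ≃+* K) : ↥(twistedF4 K e) ≃* ↥(twistedF4 K e) where
  toFun g := ⟨glEquiv chevF4 τ g, glEquiv_mem_twistedF4 τ g g.2⟩
  invFun g := ⟨glEquiv chevF4 τ.symm g, glEquiv_mem_twistedF4 τ.symm g g.2⟩
  left_inv g := by
    apply Subtype.ext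
    apply Units.ext
    show (((g : GL chevF4.Idx K) : Matrix chevF4.Idx chevF4.Idx K).map τ).map τ.symm = _
    ext i j
    simp
  right_inv g := by
    apply Subtype.ext
    apply Units.ext
    show (((g : GL chevF4.Idx K) : Matrix chevF4.Idx chevF4.Idx K).map τ.symm).map τ = _
    ext i j
    simp
  map_mul' a b := by
    apply Subtype.ext
    show glEquiv chevF4 τ ((a : GL chevF4.Idx K) * (b : GL chevF4.Idx K)) = _
    rw [map_mul]
    rfl

theorem fieldTw_coe (τ : K ≃+* K) (g : ↥(twistedF4 K e)) :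
    ((fieldTw e τ g : ↥(twistedF4 K e)) : GL chevF4.Idx K) = glEquiv chevF4 τ g := rfl

/-- the field automorphisms as a homomorphism -/
noncomputable def fieldTwHom (K : Type*) [Field K] (e : ℕ) : (K ≃+* K) →* MulAut ↥(twistedF4 K e) where
  toFun τ := fieldTw e τ
  map_one' := by
    ext g i j
    show (((g : GL chevF4.Idx K) : Matrix chevF4.Idx chevF4.Idx K).map (1 : K ≃+* K)) i j = _
    simp
  map_mul' τ₁ τ₂ := by
    ext g i j
    show (((g : GL chevF4.Idx K) : Matrix chevF4.Idx chevF4.Idx K).map (τ₁ * τ₂)) i j =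
      ((((g : GL chevF4.Idx K) : Matrix chevF4.Idx chevF4.Idx K).map τ₂).map τ₁) i j
    simp

theorem fieldTwHom_apply (τ : K ≃+* K) : fieldTwHom K e τ = fieldTw e τ := rfl

end Field

end Cfsg.Agent.Helper18.TwF4
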