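import Cfsg.Agent.Helper18.TwF4.Defs

/-!
Helper18 / two-generation of `²F₄(q)` (S2408), PIECE GK (a generator of the multiplicative group of the field).
-/

set_option autoImplicit false
set_option maxRecDepth 100000

namespace Cfsg.Agent.Helper18.TwF4

open Cfsg Cfsg.Lie Cfsg.Agent.Helper18 Cfsg.Agent.Helper18.Aut Cfsg.Agent.Helper19.Twist
  Cfsg.Agent.Helper19.Poinc Cfsg.Agent.Helper19.Cox Cfsg.Agent.Helper6 Cfsg.Agent.S1080
  Cfsg.Agent.Helper18.Sub Cfsg.Agent.Helper36.F4Class Cfsg.Agent.Helper36.SigmaF4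
  Cfsg.Agent.Helper36.SigmaChev Cfsg.Agent.Helper36.B2Class

variable {K : Type*} [Field K] [CharP K 2] [Fintype K] {m : ℕ}

omit [CharP K 2] in
/-- PIECE GK: the multiplicative group of `K` is cyclic: a generator `α₀`, different from `1` since `|K| ≥ 8`.
Hint: `IsCyclic Kˣ` (instance for finite fields), `IsCyclic.exists_generator`, `mem_powers_iff_mem_zpowers` (finite group:
powers suffice); `α₀ ≠ 1` since otherwise `Kˣ` is trivial but `|Kˣ| = 2^(2m+1) - 1 ≥ 7`. -/
theorem exists_gen_K (hm : 1 ≤ m) (hK : Fintype.card K = 2 ^ (2 * m + 1)) :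
    ∃ α₀ : K, α₀ ≠ 0 ∧ α₀ ≠ 1 ∧ ∀ y : K, y ≠ 0 → ∃ j : ℕ, y = α₀ ^ j := by
  classical
  obtain ⟨g, hg⟩ := IsCyclic.exists_generator (α := Kˣ)
  refine ⟨(g : K), g.ne_zero, ?_, ?_⟩
  · intro h1
    have hg1 : g = 1 := Units.ext h1
    have hall : ∀ u : Kˣ, u = 1 := by
      intro u
      have hu := hg u
      rw [hg1, Subgroup.zpowers_one_eq_bot, Subgroup.mem_bot] at hu
      exact hu
    have hcard : Fintype.card Kˣ = 1 := Fintype.card_eq_one_iff.mpr ⟨1, hall⟩
    rw [Fintype.card_units, hK] at hcard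
    have h8 : 2 ^ 3 ≤ 2 ^ (2 * m + 1) := Nat.pow_le_pow_right (by norm_num) (by omega)
    omega
  · intro y hy
    have hu := hg (Units.mk0 y hy)
    rw [← mem_powers_iff_mem_zpowers] at hu
    obtain ⟨j, hj⟩ := hu
    refine ⟨j, ?_⟩
    have h2 := congrArg (fun u : Kˣ => (u : K)) hj
    simp only [Units.val_pow_eq_pow_val, Units.val_mk0] at h2
    exact h2.symm

end Cfsg.Agent.Helper18.TwF4
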