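import Cfsg.Agent.Helper18.TwF4.Defs

/-!
Helper18 / two-generation of `²F₄(q)` (S2408), PIECE GG (the four fundamental root subgroups generate).
-/

set_option autoImplicit false
set_option maxRecDepth 100000

namespace Cfsg.Agent.Helper18.TwF4

open Cfsg Cfsg.Lie Cfsg.Agent.Helper18 Cfsg.Agent.Helper18.Aut Cfsg.Agent.Helper19.Twist
  Cfsg.Agent.Helper19.Poinc Cfsg.Agent.Helper19.Cox Cfsg.Agent.Helper6 Cfsg.Agent.S1080
  Cfsg.Agent.Helper18.Sub Cfsg.Agent.Helper36.F4Class Cfsg.Agent.Helper36.SigmaF4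
  Cfsg.Agent.Helper36.SigmaChev Cfsg.Agent.Helper36.B2Class

variable {K : Type*} [Field K] [CharP K 2] [Fintype K] {m : ℕ}


theorem GG_Pp_mem (t : K) : Cfsg.Agent.Helper36.TwistF4.Pp (phi (K := K) m) t ∈ listSubgroup chevF4 K [33, 24] := by
  rw [← PpG_val]
  exact PpG_mem_list (m := m) t


theorem GG_Pm_mem (t : K) : Cfsg.Agent.Helper36.TwistF4.Pm (phi (K := K) m) t ∈ listSubgroup chevF4 K [14, 23] := by
  rw [← PmG_val]
  unfold PmG
  simp only [Subgroup.coe_mul, XG_val]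
  exact mul_mem (x18_mem_list _ 14 (by simp) _) (x18_mem_list _ 23 (by simp) _)


theorem GG_Bp_mem (t u : K) : Cfsg.Agent.Helper36.TwistF4.Bp (phi (K := K) m) t u ∈ listSubgroup chevF4 K [27, 25, 28, 30] := by
  rw [← BpG_val]
  exact BpG_mem_list (m := m) t u


theorem GG_Bm_mem (t u : K) : Cfsg.Agent.Helper36.TwistF4.Bm (phi (K := K) m) t u ∈ listSubgroup chevF4 K [20, 22, 19, 17] := by
  rw [← BmG_val]
  unfold BmG beta nf
  simp only [Subgroup.coe_mul, XG_val]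
  exact mul_mem (mul_mem (mul_mem (x18_mem_list _ 20 (by simp) _) (x18_mem_list _ 22 (by simp) _))
    (x18_mem_list _ 19 (by simp) _)) (x18_mem_list _ 17 (by simp) _)


/-- PIECE GG: a subgroup of `G¹` containing `X_{±0}` and `X_{±1}` is `G¹`. -/
theorem eq_top_of_root_le (L : Subgroup ↥(twistedF4 K (2 ^ m)))
    (h : ∀ a : Fin 2, Xp K m a ≤ L ∧ Xm K m a ≤ L) : L = ⊤ := by
  have key : ∀ (x : GL chevF4.Idx K), x ∈ Subgroup.closure (Cfsg.Agent.Helper36.TwistF4.gens (phi (K := K) m)) →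
      ∀ hx : x ∈ twistedF4 K (2 ^ m), (⟨x, hx⟩ : ↥(twistedF4 K (2 ^ m))) ∈ L := by
    intro x hx
    induction hx using Subgroup.closure_induction with
    | mem g hg =>
      intro hx
      rcases hg with ⟨t, rfl | rfl⟩ | ⟨t, u, rfl | rfl⟩
      · exact (h 0).1 (Subgroup.mem_subgroupOf.mpr (GG_Pp_mem t))
      · exact (h 0).2 (Subgroup.mem_subgroupOf.mpr (GG_Pm_mem t))
      · exact (h 1).1 (Subgroup.mem_subgroupOf.mpr (GG_Bp_mem t u))
      · exact (h 1).2 (Subgroup.mem_subgroupOf.mpr (GG_Bm_mem t u))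
    | one =>
      intro hx
      have : (⟨1, hx⟩ : ↥(twistedF4 K (2 ^ m))) = 1 := rfl
      rw [this]
      exact L.one_mem
    | mul a b ha hb iha ihb =>
      intro hx
      have ha' : a ∈ twistedF4 K (2 ^ m) := by rw [twisted_eq]; exact ha
      have hb' : b ∈ twistedF4 K (2 ^ m) := by rw [twisted_eq]; exact hb
      have : (⟨a * b, hx⟩ : ↥(twistedF4 K (2 ^ m))) = ⟨a, ha'⟩ * ⟨b, hb'⟩ := rfl
      rw [this]
      exact L.mul_mem (iha ha') (ihb hb')
    | inv a ha iha =>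
      intro hx
      have ha' : a ∈ twistedF4 K (2 ^ m) := by rw [twisted_eq]; exact ha
      have : (⟨a⁻¹, hx⟩ : ↥(twistedF4 K (2 ^ m))) = (⟨a, ha'⟩ : ↥(twistedF4 K (2 ^ m)))⁻¹ := rfl
      rw [this]
      exact L.inv_mem (iha ha')
  rw [eq_top_iff]
  rintro ⟨x, hx⟩ -
  have hx' : x ∈ Subgroup.closure (Cfsg.Agent.Helper36.TwistF4.gens (phi (K := K) m)) := by
    have := hx
    rw [twisted_eq] at this
    exact this
  exact key x hx' hx

end Cfsg.Agent.Helper18.TwF4
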