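import Cfsg.Agent.Helper18.TwF4.Defs
import Cfsg.Agent.Helper18.TwF4.P_Torus

/-!
Helper18 / two-generation of `²F₄(q)` (S2408), PIECE GT (three more facts on the torus `T¹ = H ∩ G¹`).
Library: `Helper36/F4Torus.lean` (`ent`, `ent_char`, `ent_mul`, `ent_one`, `eq_one_of_ent`, `ent_rho`, `ent_conj`), and the proofs of
`ent_weyl`, `T_conj_xS` in `Helper18/TwF4/P_Torus.lean` (helper33) for the multiplicativity of `ent` on root sums.
-/

set_option autoImplicit false
set_option maxRecDepth 100000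

namespace Cfsg.Agent.Helper18.TwF4

open Cfsg Cfsg.Lie Cfsg.Agent.Helper18 Cfsg.Agent.Helper18.Aut Cfsg.Agent.Helper19.Twist
  Cfsg.Agent.Helper19.Poinc Cfsg.Agent.Helper19.Cox Cfsg.Agent.Helper6 Cfsg.Agent.S1080
  Cfsg.Agent.Helper18.Sub Cfsg.Agent.Helper36.F4Class Cfsg.Agent.Helper36.SigmaF4
  Cfsg.Agent.Helper36.SigmaChev Cfsg.Agent.Helper36.B2Class

variable {K : Type*} [Field K] [CharP K 2] [Fintype K] {m : ℕ}

section auxGT

omit [CharP K 2] [Fintype K] in
/-- `ent` of a power -/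
theorem ent_pow_GT (k : GL chevF4.Idx K) (hk : k ∈ chevF4.diagonalSubgroup K) (r n : ℕ) :
    ent r (k ^ n) = ent r k ^ n := by
  induction n with
  | zero => rw [pow_zero, pow_zero, ent_one]
  | succ n ih => rw [pow_succ, pow_succ, ent_mul _ _ (pow_mem hk n) hk, ih]

omit [CharP K 2] [Fintype K] in
/-- `ent` of an inverse -/
theorem ent_inv_GT (k : GL chevF4.Idx K) (hk : k ∈ chevF4.diagonalSubgroup K) (r : ℕ) :
    ent r k⁻¹ = (ent r k)⁻¹ := by
  have h1 := ent_mul k k⁻¹ hk (inv_mem hk) r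
  rw [mul_inv_cancel, ent_one] at h1
  exact eq_inv_of_mul_eq_one_right h1.symm

omit [CharP K 2] [Fintype K] in
/-- the character of an element of `H` on an integral combination of three roots -/
theorem ent_lin_GT (k : GL chevF4.Idx K) (hk : k ∈ chevF4.diagonalSubgroup K) (r s t u : ℕ) (a b : ℤ)
    (hr : r < 48) (hs : s < 48) (ht : t < 48) (hu : u < 48)
    (hc : ∀ i < 4, chevF4.cartan i u = chevF4.cartan i r + chevF4.cartan i s * a + chevF4.cartan i t * b) :
    ent u k = ent r k * ent s k ^ a * ent t k ^ b := by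
  obtain ⟨c, hc0, hent⟩ := ent_eq_prod_TO k hk
  have h0 := hc0 0 (by norm_num)
  have h1 := hc0 1 (by norm_num)
  have h2 := hc0 2 (by norm_num)
  have h3 := hc0 3 (by norm_num)
  rw [hent r hr, hent s hs, hent t ht, hent u hu, hc 0 (by norm_num), hc 1 (by norm_num), hc 2 (by norm_num),
    hc 3 (by norm_num), zpow_add₀ h0, zpow_add₀ h0, zpow_add₀ h1, zpow_add₀ h1, zpow_add₀ h2, zpow_add₀ h2,
    zpow_add₀ h3, zpow_add₀ h3, zpow_mul, zpow_mul, zpow_mul, zpow_mul, zpow_mul, zpow_mul, zpow_mul, zpow_mul,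
    mul_zpow, mul_zpow, mul_zpow, mul_zpow, mul_zpow, mul_zpow]
  ring

end auxGT

/-- PIECE GT-1: the exponent of the torus divides `q - 1`.
Hint: `k := h ^ (q-1)` lies in `H`; `ent r k = (ent r h) ^ (q-1) = 1` (`ent_mul` by induction, `ent_ne_zero`,
`FiniteField.pow_card_sub_one_eq_one`), then `eq_one_of_ent`. -/
theorem T_pow_card (hK : Fintype.card K = 2 ^ (2 * m + 1)) (h : ↥(twistedF4 K (2 ^ m)))
    (hh : (h : GL chevF4.Idx K) ∈ chevF4.diagonalSubgroup K) : h ^ (2 ^ (2 * m + 1) - 1) = 1 := by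
  apply Subtype.ext
  rw [Subgroup.coe_pow, Subgroup.coe_one]
  have hk := pow_mem hh (2 ^ (2 * m + 1) - 1)
  have hent : ∀ r, ent r ((h : GL chevF4.Idx K) ^ (2 ^ (2 * m + 1) - 1)) = 1 := by
    intro r
    rw [ent_pow_GT _ hh, ← hK]
    exact FiniteField.pow_card_sub_one_eq_one _ (ent_ne_zero _ hh r)
  exact eq_one_of_ent _ hk (hent 33) (hent 27) (hent 25) (hent 24)

/-- PIECE GT-2: a representative of the reflection `w_1 = (w_{p₂} w_{p₃})²` centralises the elements of `T¹` killed by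
the character `ent 25`.
Hint: `k := s h s⁻¹ h⁻¹ ∈ H` (`ent_conj` gives `s h s⁻¹ ∈ H`); by `ent_conj` with the word `[1,2,1,2]`,
`ent r (s h s⁻¹) = ent (w_1⁻¹ r) h`, and `w_1` fixes `p₁`, `p₄` modulo the span of `p₂, p₃` and maps `p₂, p₃` to their
negatives; `ent 27 h = φ (ent 25 h) = 1` (`ent_rho` with `twisted_le_FixG`, `σ` from `exists_sigma hK`), so all four
characters `ent 33, 27, 25, 24` of `k` are `1` (multiplicativity of `ent` on root sums as in helper33's `ent_weyl`), and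
`eq_one_of_ent` concludes. -/
theorem T_fix_S (hK : Fintype.card K = 2 ^ (2 * m + 1)) (s : GL chevF4.Idx K)
    (hsN : s ∈ chevF4.monomialSubgroup K)
    (hθ : thetaF4 ⟨s, hsN⟩ = gp Cfsg.Agent.Helper19.Poinc.certF4.M [1, 2, 1, 2]) (h : ↥(twistedF4 K (2 ^ m)))
    (hh : (h : GL chevF4.Idx K) ∈ chevF4.diagonalSubgroup K) (h25 : ent 25 (h : GL chevF4.Idx K) = 1) :
    s * (h : GL chevF4.Idx K) * s⁻¹ = (h : GL chevF4.Idx K) := by
  have e27 : ent 27 (h : GL chevF4.Idx K) = 1 := by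
    have h1 := ent_twisted_TO hK _ h.2 hh 25 (by norm_num)
    rw [show Cfsg.Agent.Helper36.SigmaF4.rho 25 = 27 by decide, cF_long' m 25 (by decide), h25, map_one] at h1
    exact h1
  have hconj := fun (s' : ℕ) (hs' : s' < 48) => ent_conj s hsN [1, 2, 1, 2] hθ (h : GL chevF4.Idx K) hh s' hs'
  have hmem := (hconj 0 (by norm_num)).1
  have hk : s * (h : GL chevF4.Idx K) * s⁻¹ * (h : GL chevF4.Idx K)⁻¹ ∈ chevF4.diagonalSubgroup K :=
    mul_mem hmem (inv_mem hh)
  have key : ∀ (r s' : ℕ) (a b : ℤ), r < 48 → ∀ hs' : s' < 48,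
      actW Cfsg.Agent.Helper18.reflTabsF4 4 48 [1, 2, 1, 2] s' = r →
      (∀ i < 4, chevF4.cartan i s' = chevF4.cartan i r + chevF4.cartan i 27 * a + chevF4.cartan i 25 * b) →
      ent r (s * (h : GL chevF4.Idx K) * s⁻¹ * (h : GL chevF4.Idx K)⁻¹) = 1 := by
    intro r s' a b hr hs' hact hc
    rw [ent_mul _ _ hmem (inv_mem hh), ent_inv_GT _ hh]
    have h1 := (hconj s' hs').2
    rw [hact] at h1
    rw [h1, ent_lin_GT _ hh r 27 25 s' a b hr (by norm_num) (by norm_num) hs' hc, e27, h25, one_zpow, one_zpow,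
      mul_one, mul_one]
    exact mul_inv_cancel₀ (ent_ne_zero _ hh r)
  have h1 : s * (h : GL chevF4.Idx K) * s⁻¹ * (h : GL chevF4.Idx K)⁻¹ = 1 :=
    eq_one_of_ent _ hk
      (key 33 37 2 1 (by norm_num) (by norm_num) (by decide) (by decide))
      (key 27 20 (-2) 0 (by norm_num) (by norm_num) (by decide) (by decide))
      (key 25 22 0 (-2) (by norm_num) (by norm_num) (by decide) (by decide))
      (key 24 32 2 2 (by norm_num) (by norm_num) (by decide) (by decide))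
  exact mul_inv_eq_one.mp h1

omit [CharP K 2] [Fintype K] in
/-- PIECE GT-3: the reflection `w_0 = w_{p₁} w_{p₄}` inverts the character `ent 24` (`ent_conj` with the word `[0, 3]`:
it maps `p₄` (root 24) to `-p₄` (root 23), and `ent 23 h = (ent 24 h)⁻¹`: opposite roots, `ent_char`). -/
theorem ent_weyl_P (s : GL chevF4.Idx K) (hsN : s ∈ chevF4.monomialSubgroup K)
    (hθ : thetaF4 ⟨s, hsN⟩ = gp Cfsg.Agent.Helper19.Poinc.certF4.M [0, 3]) (h : GL chevF4.Idx K)
    (hh : h ∈ chevF4.diagonalSubgroup K) :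
    ent 24 (s * h * s⁻¹) = (ent 24 h)⁻¹ := by
  obtain ⟨-, hc2⟩ := ent_conj s hsN [0, 3] hθ h hh 23 (by norm_num)
  rw [show actW Cfsg.Agent.Helper18.reflTabsF4 4 48 [0, 3] 23 = 24 by decide] at hc2
  rw [hc2, ent_lin_GT h hh 24 24 24 23 (-2) 0 (by norm_num) (by norm_num) (by norm_num) (by norm_num)
    (by decide), zpow_zero, mul_one, zpow_neg, zpow_two]
  have h0 := ent_ne_zero h hh 24
  field_simp

end Cfsg.Agent.Helper18.TwF4
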