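import Cfsg.Agent.Helper18.TwF4.Defs

/-!
Helper18 / two-generation of `²F₄(q)` (S2408), PIECE GW (two facts on the representatives of Weyl group elements).
-/

set_option autoImplicit false
set_option maxRecDepth 100000

namespace Cfsg.Agent.Helper18.TwF4

open Cfsg Cfsg.Lie Cfsg.Agent.Helper18 Cfsg.Agent.Helper18.Aut Cfsg.Agent.Helper19.Twist
  Cfsg.Agent.Helper19.Poinc Cfsg.Agent.Helper19.Cox Cfsg.Agent.Helper6 Cfsg.Agent.S1080
  Cfsg.Agent.Helper18.Sub Cfsg.Agent.Helper36.F4Class Cfsg.Agent.Helper36.SigmaF4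
  Cfsg.Agent.Helper36.SigmaChev Cfsg.Agent.Helper36.B2Class Cfsg.Agent.Helper36.Twist
  Cfsg.Agent.Helper36.TwistF4

/-- (aux) the longest word maps the roots of `X_{-a}` to those of `X_a` -/
theorem GW_act_m : ∀ a < 2, ∀ r ∈ XF4m a, actW Cfsg.Agent.Helper18.reflTabsF4 4 48 w0word r ∈ XF4 a := by
  decide

/-- (aux) the reversed longest word maps the roots of `X_a` to those of `X_{-a}` -/
theorem GW_act_p_rev : ∀ a < 2, ∀ r ∈ XF4 a,
    actW Cfsg.Agent.Helper18.reflTabsF4 4 48 w0word.reverse r ∈ XF4m a := by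
  decide

theorem GW_XF4_lt : ∀ a < 2, ∀ r ∈ XF4 a, r < 48 := by decide

theorem GW_XF4m_lt : ∀ a < 2, ∀ r ∈ XF4m a, r < 48 := by decide

variable {K : Type*} [Field K] [CharP K 2] [Fintype K] {m : ℕ}

/-- PIECE GW-1: helper36's representative `m_P` of the reflection `w_0` lies in `⟨X_0, X_{-0}⟩`. -/
theorem mP_mem_sup :
    (⟨mP m, mP_mem_twisted m⟩ : ↥(twistedF4 K (2 ^ m))) ∈ Xp K m 0 ⊔ Xm K m 0 := by
  have h1 : ∀ t : K, ∀ hx : P2 chevF4 haddF4 (phi (K := K) m) 24 33 t ∈ twistedF4 K (2 ^ m),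
      (⟨_, hx⟩ : ↥(twistedF4 K (2 ^ m))) ∈ Xp K m 0 ⊔ Xm K m 0 := by
    intro t hx
    apply Subgroup.mem_sup_left
    unfold Xp
    rw [Subgroup.mem_subgroupOf]
    show P2 chevF4 haddF4 (phi (K := K) m) 24 33 t ∈ listSubgroup chevF4 K [33, 24]
    rw [← Pp_eq (phi m) hcommF4, ← PpG_val]
    exact PpG_mem_list (m := m) t
  have h2 : ∀ t : K, ∀ hx : P2 chevF4 haddF4 (phi (K := K) m) 23 14 t ∈ twistedF4 K (2 ^ m),
      (⟨_, hx⟩ : ↥(twistedF4 K (2 ^ m))) ∈ Xp K m 0 ⊔ Xm K m 0 := by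
    intro t hx
    apply Subgroup.mem_sup_right
    unfold Xm
    rw [Subgroup.mem_subgroupOf]
    show P2 chevF4 haddF4 (phi (K := K) m) 23 14 t ∈ listSubgroup chevF4 K [14, 23]
    rw [← Pm_eq (phi m) hcommF4, ← PmG_val]
    unfold PmG
    simp only [Subgroup.coe_mul, XG_val]
    exact mul_mem (x18_mem_list _ 14 (by simp) _) (x18_mem_list _ 23 (by simp) _)
  have hmem1 : ∀ t : K, P2 chevF4 haddF4 (phi (K := K) m) 24 33 t ∈ twistedF4 K (2 ^ m) := by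
    intro t
    rw [twisted_eq, ← Pp_eq (phi m) hcommF4]
    exact Pp_mem _ t
  have hmem2 : ∀ t : K, P2 chevF4 haddF4 (phi (K := K) m) 23 14 t ∈ twistedF4 K (2 ^ m) := by
    intro t
    rw [twisted_eq, ← Pm_eq (phi m) hcommF4]
    exact Pm_mem _ t
  have e : mP (K := K) m = P2 chevF4 haddF4 (phi (K := K) m) 24 33 1 *
      P2 chevF4 haddF4 (phi (K := K) m) 23 14 (-(1 : K)⁻¹) * P2 chevF4 haddF4 (phi (K := K) m) 24 33 1 := by
    unfold mP
    rw [nP_eq chevF4 haddF4 (phi m) pairF4 hcommF4]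
  have e' : (⟨mP m, mP_mem_twisted m⟩ : ↥(twistedF4 K (2 ^ m))) =
      ⟨_, hmem1 1⟩ * ⟨_, hmem2 (-(1 : K)⁻¹)⟩ * ⟨_, hmem1 1⟩ := Subtype.ext e
  rw [e']
  exact mul_mem (mul_mem (h1 _ _) (h2 _ _)) (h1 _ _)

omit [CharP K 2] in
/-- PIECE GW-2: every representative in `N ∩ G¹` of the longest element conjugates `X_{-a}` onto `X_a`. -/
theorem cjg_w0 (n' : ↥(twistedF4 K (2 ^ m))) (hN : (n' : GL chevF4.Idx K) ∈ chevF4.monomialSubgroup K)
    (hθ : thetaF4 ⟨(n' : GL chevF4.Idx K), hN⟩ = gp Cfsg.Agent.Helper19.Poinc.certF4.M w0word) (a : Fin 2) :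
    cjg n' (Xm K m a) = Xp K m a := by
  set n0 : GL chevF4.Idx K := (n' : GL chevF4.Idx K) with hn0
  set nN : ↥(chevF4.monomialSubgroup K) := ⟨n0, hN⟩ with hnN
  have hθ' : theta chevF4 hF4 Cfsg.Agent.Helper19.Poinc.certF4 (nConjHyp chevF4 hF4) nN =
      gp Cfsg.Agent.Helper19.Poinc.certF4.M w0word := hθ
  have h1 : cjg n0 (listSubgroup chevF4 K (XF4m a.val)) ≤ listSubgroup chevF4 K (XF4 a.val) := by
    unfold cjg
    apply conj_listSubgroup_le (K := K) hF4 Cfsg.Agent.Helper19.Poinc.certF4 (nConjHyp chevF4 hF4) nN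
      (XF4m a.val) (XF4 a.val) (GW_XF4m_lt a.val a.isLt)
    intro r hr
    rw [hθ', phi_gp]
    exact GW_act_m a.val a.isLt r hr
  have hθinv : theta chevF4 hF4 Cfsg.Agent.Helper19.Poinc.certF4 (nConjHyp chevF4 hF4) nN⁻¹ =
      gp Cfsg.Agent.Helper19.Poinc.certF4.M w0word.reverse := by
    rw [map_inv, hθ', gp_reverse]
  have h2 : cjg n0⁻¹ (listSubgroup chevF4 K (XF4 a.val)) ≤ listSubgroup chevF4 K (XF4m a.val) := by
    have := conj_listSubgroup_le (K := K) hF4 Cfsg.Agent.Helper19.Poinc.certF4 (nConjHyp chevF4 hF4) nN⁻¹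
      (XF4 a.val) (XF4m a.val) (GW_XF4_lt a.val a.isLt) (by
        intro r hr
        rw [hθinv, phi_gp]
        exact GW_act_p_rev a.val a.isLt r hr)
    exact this
  have e1 : cjg n0 (listSubgroup chevF4 K (XF4m a.val)) = listSubgroup chevF4 K (XF4 a.val) := by
    apply le_antisymm h1
    intro y hy
    rw [mem_cjg]
    have := h2 (conj_mem_cjg (g := n0⁻¹) hy)
    simpa using this
  unfold Xp Xm
  rw [cjg_subgroupOf]
  exact congrArg (fun S => Subgroup.subgroupOf S (twistedF4 K (2 ^ m))) e1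

end Cfsg.Agent.Helper18.TwF4
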