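import Cfsg.Agent.Helper18.TwF4.P_Param
import Cfsg.Agent.Helper18.TwF4.P_Torus
import Cfsg.Agent.Helper18.TwF4.G_Field
import Cfsg.Agent.Helper18.TwF4.G_Torus
import Cfsg.Agent.Helper18.TwF4.G_Weyl
import Cfsg.Agent.Helper18.TwF4.G_Gen

/-!
Helper18: the Ree groups `²F₄(q)`, `q = 2^(2m+1) ≥ 8`, are generated by two elements (after Steinberg, "Generators for
simple groups"): `a = h x_S(1,0)` with `h` in the torus, centralising `X_1` and acting on `X_0` through a generator of `K*`,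
and `b = x_P(1) n` with `n = m_P m_S` a representative of the Coxeter element.
-/

set_option autoImplicit false
set_option maxRecDepth 100000

namespace Cfsg.Agent.Helper18.TwF4

open Cfsg Cfsg.Lie Cfsg.Agent.Helper18 Cfsg.Agent.Helper18.Aut Cfsg.Agent.Helper19.Twist
  Cfsg.Agent.Helper19.Poinc Cfsg.Agent.Helper19.Cox Cfsg.Agent.Helper6 Cfsg.Agent.S1080
  Cfsg.Agent.Helper18.Sub Cfsg.Agent.Helper36.F4Class Cfsg.Agent.Helper36.SigmaF4
  Cfsg.Agent.Helper36.SigmaChev Cfsg.Agent.Helper36.B2Class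

section Abs

variable {G : Type*} [Group G]

/-- commuting elements `h` (of order dividing `N ≡ 3 mod 4`) and `x` (of order dividing `4`) are powers of `h x` -/
theorem mem_of_mul_mem (L : Subgroup G) (h x : G) (hc : Commute h x) (N : ℕ) (hN : h ^ N = 1) (hx : x ^ 4 = 1)
    (hN4 : N % 4 = 3) (hL : h * x ∈ L) : h ∈ L ∧ x ∈ L := by
  have h1 : (h * x) ^ N = x ^ N := by rw [hc.mul_pow, hN, one_mul]
  have h2 : x ^ N = x⁻¹ := by
    obtain ⟨k, hk⟩ : ∃ k, N = 4 * k + 3 := ⟨N / 4, by omega⟩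
    rw [hk, pow_add, pow_mul, hx, one_pow, one_mul]
    have : x ^ 3 * x = 1 := by rw [← pow_succ]; exact hx
    exact eq_inv_of_mul_eq_one_left this
  have h3 : x⁻¹ ∈ L := by rw [← h2, ← h1]; exact L.pow_mem hL N
  have h4 : x ∈ L := by simpa using L.inv_mem h3
  refine ⟨?_, h4⟩
  have : h = h * x * x⁻¹ := by group
  rw [this]
  exact L.mul_mem hL h3

end Abs

section

variable {K : Type*} [Field K] [CharP K 2] [Fintype K] {m : ℕ}

theorem xP_zero' : xP m (0 : K) = 1 := by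
  have h := xP_add (m := m) (0 : K) 0
  rw [add_zero] at h
  calc xP m (0 : K) = xP m 0 * xP m 0 * (xP m 0)⁻¹ := by group
    _ = xP m 0 * (xP m 0)⁻¹ := by rw [← h]
    _ = 1 := mul_inv_cancel _

theorem xP_inv (t : K) : (xP m t)⁻¹ = xP m t := by
  have h := xP_add (m := m) t t
  rw [CharTwo.add_self_eq_zero, xP_zero'] at h
  exact inv_eq_of_mul_eq_one_left h.symm

theorem xS_zero (hK : Fintype.card K = 2 ^ (2 * m + 1)) : xS m (0 : K) 0 = 1 := by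
  have h := xS_mul hK (0 : K) 0 0 0
  simp only [add_zero, map_zero, mul_zero] at h
  calc xS m (0 : K) 0 = xS m 0 0 * xS m 0 0 * (xS m 0 0)⁻¹ := by group
    _ = xS m 0 0 * (xS m 0 0)⁻¹ := by rw [h]
    _ = 1 := mul_inv_cancel _

theorem xS_one_pow_four (hK : Fintype.card K = 2 ^ (2 * m + 1)) : xS m (1 : K) 0 ^ 4 = 1 := by
  have h2 : xS m (1 : K) 0 ^ 2 = xS m 0 1 := by
    rw [pow_two, xS_mul hK]
    simp [CharTwo.add_self_eq_zero]
  have h4 : xS m (1 : K) 0 ^ 4 = xS m (1 : K) 0 ^ 2 * xS m (1 : K) 0 ^ 2 := by rw [← pow_add]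
  rw [h4, h2, xS_mul hK]
  simp only [map_zero, zero_mul, CharTwo.add_self_eq_zero]
  exact xS_zero hK

theorem card_sub_one_mod_four (hm : 1 ≤ m) : (2 ^ (2 * m + 1) - 1) % 4 = 3 := by
  obtain ⟨k, rfl⟩ : ∃ k, m = k + 1 := ⟨m - 1, by omega⟩
  have : 2 ^ (2 * (k + 1) + 1) = 8 * 4 ^ k := by
    rw [show 2 * (k + 1) + 1 = 2 * k + 3 by ring, pow_add, pow_mul]
    norm_num
    ring
  rw [this]
  have : 1 ≤ 4 ^ k := Nat.one_le_pow _ _ (by norm_num)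
  omega

/-- the Ree groups `²F₄(q)`, `q ≥ 8`, are generated by two elements -/
theorem gen2_F4 (hm : 1 ≤ m) (hK : Fintype.card K = 2 ^ (2 * m + 1)) :
    ∃ a b : ↥(twistedF4 K (2 ^ m)), Subgroup.closure ({a, b} : Set ↥(twistedF4 K (2 ^ m))) = ⊤ := by
  obtain ⟨σ, hσ⟩ := exists_sigma hK
  obtain ⟨hPN, hPθ⟩ := mP_theta (K := K) m
  obtain ⟨mS, hSG, hSN, hSθ⟩ := exists_mS_theta hK hσ
  obtain ⟨α₀, hα0, hα1, hαgen⟩ := exists_gen_K (K := K) hm hK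
  obtain ⟨h, hh, e24, e25⟩ := exists_torus (m := m) hK α₀ 1 hα0 one_ne_zero
  have hPθ' : thetaF4 ⟨mP (K := K) m, hPN⟩ = gp Cfsg.Agent.Helper19.Poinc.certF4.M [0, 3] := by
    rw [hPθ, gp_F4_30]
  set s₀ : ↥(twistedF4 K (2 ^ m)) := ⟨mP m, mP_mem_twisted m⟩ with hs₀
  set s₁ : ↥(twistedF4 K (2 ^ m)) := ⟨mS, hSG⟩ with hs₁
  set n : ↥(twistedF4 K (2 ^ m)) := s₀ * s₁ with hn
  refine ⟨h * xS m 1 0, xP m 1 * n, ?_⟩
  set L := Subgroup.closure ({h * xS m 1 0, xP m 1 * n} : Set ↥(twistedF4 K (2 ^ m))) with hL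
  have haL : h * xS m 1 0 ∈ L := Subgroup.subset_closure (Set.mem_insert _ _)
  have hbL : xP m 1 * n ∈ L := Subgroup.subset_closure (Set.mem_insert_of_mem _ rfl)
  -- step 1: `h` and `x_S(1,0)` lie in `L`
  have hcomm : Commute h (xS m 1 0) := by
    have := T_conj_xS hK h hh 1 0
    rw [e25] at this
    simp only [mul_one, mul_zero] at this
    show h * xS m 1 0 = xS m 1 0 * h
    calc h * xS m 1 0 = h * xS m 1 0 * h⁻¹ * h := by group
      _ = xS m 1 0 * h := by rw [this]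
  obtain ⟨hhL, hxL⟩ := mem_of_mul_mem L h (xS m 1 0) hcomm _ (T_pow_card hK h hh) (xS_one_pow_four hK)
    (card_sub_one_mod_four hm) haL
  -- the conjugate `h₂ = n h n⁻¹`
  have hfix := T_fix_S hK mS hSN hSθ h hh e25
  have hh₂coe : ((n * h * n⁻¹ : ↥(twistedF4 K (2 ^ m))) : GL chevF4.Idx K) =
      mP m * (h : GL chevF4.Idx K) * (mP m)⁻¹ := by
    show mP m * mS * (h : GL chevF4.Idx K) * (mP m * mS)⁻¹ = _
    calc mP m * mS * (h : GL chevF4.Idx K) * (mP m * mS)⁻¹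
        = mP m * (mS * (h : GL chevF4.Idx K) * mS⁻¹) * (mP m)⁻¹ := by group
      _ = _ := by rw [hfix]
  have hmPh := ent_conj (mP m) hPN [3, 0] hPθ (h : GL chevF4.Idx K) hh 24 (by norm_num)
  set h₂ : ↥(twistedF4 K (2 ^ m)) := n * h * n⁻¹ with hh₂
  have hh₂d : (h₂ : GL chevF4.Idx K) ∈ chevF4.diagonalSubgroup K := by rw [hh₂coe]; exact hmPh.1
  have e24₂ : ent 24 (h₂ : GL chevF4.Idx K) = α₀⁻¹ := by
    rw [hh₂coe, ent_weyl_P _ hPN hPθ' _ hh, e24]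
  have hh₂inv : ((h₂⁻¹ : ↥(twistedF4 K (2 ^ m))) : GL chevF4.Idx K) ∈ chevF4.diagonalSubgroup K :=
    inv_mem hh₂d
  have e24₂' : ent 24 ((h₂⁻¹ : ↥(twistedF4 K (2 ^ m))) : GL chevF4.Idx K) = α₀ := by
    have h1 := ent_mul (h₂ : GL chevF4.Idx K) ((h₂⁻¹ : ↥(twistedF4 K (2 ^ m))) : GL chevF4.Idx K) hh₂d hh₂inv 24
    have h2 : (h₂ : GL chevF4.Idx K) * ((h₂⁻¹ : ↥(twistedF4 K (2 ^ m))) : GL chevF4.Idx K) = 1 := by
      rw [← Subgroup.coe_mul, mul_inv_cancel]; rfl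
    rw [h2, ent_one, e24₂] at h1
    field_simp at h1
    exact h1.symm
  set k : ↥(twistedF4 K (2 ^ m)) := h * h₂⁻¹ with hk
  have hkd : (k : GL chevF4.Idx K) ∈ chevF4.diagonalSubgroup K := mul_mem hh hh₂inv
  have e24k : ent 24 (k : GL chevF4.Idx K) = α₀ * α₀ := by
    show ent 24 ((h : GL chevF4.Idx K) * ((h₂⁻¹ : ↥(twistedF4 K (2 ^ m))) : GL chevF4.Idx K)) = _
    rw [ent_mul _ _ hh hh₂inv, e24, e24₂']
  -- step 2: a non-trivial element of `X_0` in `L`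
  set y : ↥(twistedF4 K (2 ^ m)) := h * (xP m 1 * n) * h⁻¹ * (xP m 1 * n)⁻¹ with hy
  have hyL : y ∈ L := L.mul_mem (L.mul_mem (L.mul_mem hhL hbL) (L.inv_mem hhL)) (L.inv_mem hbL)
  have hy1 : y = xP m α₀ * k * xP m 1 := by
    have e1 : y = (h * xP m 1 * h⁻¹) * (h * (n * h * n⁻¹)⁻¹) * (xP m 1)⁻¹ := by rw [hy]; group
    rw [e1, T_conj_xP hK h hh, e24, mul_one, xP_inv]
  have hkcomm : h * k * h⁻¹ = k := by
    have : h * k = k * h := Subtype.ext (diag_comm _ _ hh hkd)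
    rw [this]; group
  have hy2 : h * y * h⁻¹ = xP m (α₀ * α₀) * k * xP m α₀ := by
    have e1 : h * y * h⁻¹ = (h * xP m α₀ * h⁻¹) * (h * k * h⁻¹) * (h * xP m 1 * h⁻¹) := by rw [hy1]; group
    rw [e1, T_conj_xP hK h hh, T_conj_xP hK h hh, hkcomm, e24, mul_one]
  set c : K := α₀ * α₀ + α₀ * α₀ * (α₀ + 1) + α₀ with hc
  have hz : h * y * h⁻¹ * y⁻¹ = xP m c := by
    have e1 : h * y * h⁻¹ * y⁻¹ = xP m (α₀ * α₀) * (k * (xP m α₀ * xP m 1) * k⁻¹) * xP m α₀ := by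
      rw [hy2, hy1]
      simp only [mul_inv_rev, xP_inv]
      group
    rw [e1, ← xP_add, T_conj_xP hK k hkd, e24k, ← xP_add, ← xP_add]
  have hc0 : c ≠ 0 := by
    have : c = α₀ * (α₀ + 1) ^ 2 := by rw [hc]; ring
    rw [this]
    have h1 : α₀ + 1 ≠ 0 := by
      intro h0
      apply hα1
      have := CharTwo.add_eq_zero.mp h0
      exact this
    exact mul_ne_zero hα0 (pow_ne_zero 2 h1)
  have hzL : xP m c ∈ L := by
    rw [← hz]
    exact L.mul_mem (L.mul_mem (L.mul_mem hhL hyL) (L.inv_mem hhL)) (L.inv_mem hyL)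
  -- step 3: `X_0 ≤ L`
  have hpowP : ∀ j : ℕ, h ^ j * xP m c * (h ^ j)⁻¹ = xP m (α₀ ^ j * c) := by
    intro j
    induction j with
    | zero => simp
    | succ j ih =>
      have : h ^ (j + 1) * xP m c * (h ^ (j + 1))⁻¹ = h * (h ^ j * xP m c * (h ^ j)⁻¹) * h⁻¹ := by
        rw [pow_succ']; group
      rw [this, ih, T_conj_xP hK h hh, e24]
      congr 1
      ring
  have hxPL : ∀ t : K, xP m t ∈ L := by
    intro t
    by_cases ht : t = 0
    · rw [ht, xP_zero']; exact L.one_mem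
    obtain ⟨j, hj⟩ := hαgen (t / c) (div_ne_zero ht hc0)
    have : t = α₀ ^ j * c := by rw [← hj]; field_simp
    rw [this, ← hpowP j]
    exact L.mul_mem (L.mul_mem (L.pow_mem hhL j) hzL) (L.inv_mem (L.pow_mem hhL j))
  have hX0 : Xp K m 0 ≤ L := by
    intro x hx
    obtain ⟨t, rfl⟩ := (mem_Xp0 hK x).mp hx
    exact hxPL t
  -- step 4: `n` and `n₀ = n⁴` lie in `L`
  have hnL : n ∈ L := by
    have : n = (xP m 1)⁻¹ * (xP m 1 * n) := by group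
    rw [this]
    exact L.mul_mem (L.inv_mem (hxPL 1)) hbL
  set n₀ : ↥(twistedF4 K (2 ^ m)) := n ^ 4 with hn₀
  have hn₀L : n₀ ∈ L := L.pow_mem hnL 4
  have hn₀coe : (n₀ : GL chevF4.Idx K) = (mP m * mS) ^ 4 := rfl
  have hN0 : (n₀ : GL chevF4.Idx K) ∈ chevF4.monomialSubgroup K := by
    rw [hn₀coe]; exact pow_mem (mul_mem hPN hSN) 4
  have hθ0 : thetaF4 ⟨(n₀ : GL chevF4.Idx K), hN0⟩ = gp Cfsg.Agent.Helper19.Poinc.certF4.M w0word := by
    have e : (⟨(n₀ : GL chevF4.Idx K), hN0⟩ : ↥(chevF4.monomialSubgroup K)) =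
        (⟨mP m, hPN⟩ * ⟨mS, hSN⟩) ^ 4 := rfl
    rw [e, map_pow, map_mul, hPθ, hSθ, ← gp_append]
    simp only [pow_succ, pow_zero, one_mul, ← gp_append]
    rfl
  have hneg : ∀ a : Fin 2, Xp K m a ≤ L → Xm K m a ≤ L := by
    intro a ha y hy
    have h1 : n₀ * y * n₀⁻¹ ∈ Xp K m a := by
      rw [← cjg_w0 n₀ hN0 hθ0 a]
      exact conj_mem_cjg hy
    have : y = n₀⁻¹ * (n₀ * y * n₀⁻¹) * n₀ := by group
    rw [this]
    exact L.mul_mem (L.mul_mem (L.inv_mem hn₀L) (ha h1)) hn₀L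
  have hXm0 : Xm K m 0 ≤ L := hneg 0 hX0
  -- step 5: `m_P ∈ L`, and its conjugate of `h`
  have hs₀L : s₀ ∈ L := (sup_le hX0 hXm0) mP_mem_sup
  set h' : ↥(twistedF4 K (2 ^ m)) := s₀ * h * s₀⁻¹ with hh'
  have hh'L : h' ∈ L := L.mul_mem (L.mul_mem hs₀L hhL) (L.inv_mem hs₀L)
  have hh'coe : (h' : GL chevF4.Idx K) = mP m * (h : GL chevF4.Idx K) * (mP m)⁻¹ := rfl
  have hh'd : (h' : GL chevF4.Idx K) ∈ chevF4.diagonalSubgroup K := by rw [hh'coe]; exact hmPh.1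
  have e25' : ent 25 (h' : GL chevF4.Idx K) = α₀ := by
    rw [hh'coe, ent_weyl _ hPN hPθ' _ hh, e24, e25, mul_one]
  -- step 6: `X_1 ≤ L`
  have hpowS : ∀ j : ℕ, h' ^ j * xS m 1 0 * (h' ^ j)⁻¹ = xS m (α₀ ^ j) 0 := by
    intro j
    induction j with
    | zero => simp
    | succ j ih =>
      have : h' ^ (j + 1) * xS m 1 0 * (h' ^ (j + 1))⁻¹ = h' * (h' ^ j * xS m 1 0 * (h' ^ j)⁻¹) * h'⁻¹ := by
        rw [pow_succ']; group
      rw [this, ih, T_conj_xS hK h' hh'd, e25', mul_zero, pow_succ']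
  have hxS0 : ∀ t : K, xS m t 0 ∈ L := by
    intro t
    by_cases ht : t = 0
    · rw [ht, xS_zero hK]; exact L.one_mem
    obtain ⟨j, hj⟩ := hαgen t ht
    rw [hj, ← hpowS j]
    exact L.mul_mem (L.mul_mem (L.pow_mem hh'L j) hxL) (L.inv_mem (L.pow_mem hh'L j))
  have hxSu : ∀ u : K, xS m 0 u ∈ L := by
    intro u
    have e1 : xS m (1 : K) 0 * xS m u 0 = xS m (1 + u) u := by
      rw [xS_mul hK]; simp
    have e2 : xS m (1 + u) 0 * xS m 0 u = xS m (1 + u) u := by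
      rw [xS_mul hK]; simp
    have : xS m 0 u = (xS m (1 + u) 0)⁻¹ * (xS m (1 : K) 0 * xS m u 0) := by
      rw [e1, ← e2]; group
    rw [this]
    exact L.mul_mem (L.inv_mem (hxS0 _)) (L.mul_mem (hxS0 1) (hxS0 u))
  have hX1 : Xp K m 1 ≤ L := by
    intro x hx
    obtain ⟨t, u, rfl⟩ := (mem_Xp1 hK x).mp hx
    have : xS m t u = xS m t 0 * xS m 0 u := by
      rw [xS_mul hK]; simp
    rw [this]
    exact L.mul_mem (hxS0 t) (hxSu u)
  -- conclusion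
  apply eq_top_of_root_le L
  intro a
  fin_cases a
  · exact ⟨hX0, hXm0⟩
  · exact ⟨hX1, hneg 1 hX1⟩

end

end Cfsg.Agent.Helper18.TwF4
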