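import Cfsg.Agent.Helper18.TwF4.Defs

/-!
Helper18 / automorphisms of `²F₄(q)`, PIECE BO (the Borel subgroup of `G¹`).
-/

set_option autoImplicit false
set_option maxRecDepth 100000

namespace Cfsg.Agent.Helper18.TwF4

open Cfsg Cfsg.Lie Cfsg.Agent.Helper18 Cfsg.Agent.Helper18.Aut Cfsg.Agent.Helper19.Twist
  Cfsg.Agent.Helper19.Poinc Cfsg.Agent.Helper19.Cox Cfsg.Agent.Helper6 Cfsg.Agent.S1080
  Cfsg.Agent.Helper18.Sub Cfsg.Agent.Helper36.F4Class Cfsg.Agent.Helper36.SigmaF4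
  Cfsg.Agent.Helper36.SigmaChev Cfsg.Agent.Helper36.B2Class

variable {K : Type*} [Field K] [CharP K 2] [Fintype K] {m : ℕ}

/-- PIECE BO-1: `B¹ = U¹ T¹`.
Hint: `Cfsg.Agent.Helper19.Twist.spec_borel_decomp_fixed` with `σ` from `exists_sigma hK`, `hG1fix` from
`twisted_le_FixG hK hσ`, `hU` from `hU_F4 hK hσ` (as in `exists_data_F4`, `Helper19/Twist/F4Inst.lean`). -/
theorem B1_decomp_F4 (hK : Fintype.card K = 2 ^ (2 * m + 1)) (b : ↥(twistedF4 K (2 ^ m)))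
    (hb : (b : GL chevF4.Idx K) ∈ chevF4.borelSubgroup K) :
    ∃ u ∈ U1 K m, ∃ t ∈ T1 K m, b = u * t := by
  obtain ⟨σ, c, hσ, hG1, hG1fix, hU, -⟩ := exists_data_F4 (m := m) hK
  obtain ⟨u, hu, h, hh, e⟩ := spec_borel_decomp_fixed chevF4 hF4 (twistedF4 K (2 ^ m)) hG1fix hU hσ
    (b : GL chevF4.Idx K) ⟨hb, b.2⟩
  exact ⟨⟨u, hu.2⟩, Subgroup.mem_subgroupOf.mpr hu.1, ⟨h, hh.2⟩, Subgroup.mem_subgroupOf.mpr hh.1,
    Subtype.ext e⟩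

omit [CharP K 2] [Fintype K] in
/-- PIECE BO-2: `B¹` normalises `U¹` (`cjg_borel_pos`, `cjg_subgroupOf`) -/
theorem U_norm_F4 (b : ↥(twistedF4 K (2 ^ m))) (hb : (b : GL chevF4.Idx K) ∈ chevF4.borelSubgroup K) :
    cjg b (U1 K m) = U1 K m := by
  unfold U1
  rw [cjg_subgroupOf, cjg_borel_pos chevF4 hF4 _ hb]

/-- PIECE BO-3: `B¹`-conjugates of `V¹` are `U¹`-conjugates (from BO-1 and `cjg_diag_neg`) -/
theorem V_conj_F4 (hK : Fintype.card K = 2 ^ (2 * m + 1)) (b : ↥(twistedF4 K (2 ^ m)))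
    (hb : (b : GL chevF4.Idx K) ∈ chevF4.borelSubgroup K) :
    ∃ u ∈ U1 K m, cjg b (V1 K m) = cjg u (V1 K m) := by
  obtain ⟨u, hu, t, ht, e⟩ := B1_decomp_F4 hK b hb
  refine ⟨u, hu, ?_⟩
  have h1 : cjg t (V1 K m) = V1 K m := by
    unfold V1
    rw [cjg_subgroupOf]
    show (cjg (t : GL chevF4.Idx K) (chevF4.negUnipotent K)).subgroupOf _ = _
    rw [cjg_diag_neg chevF4 hF4 _ (Subgroup.mem_subgroupOf.mp ht)]
  rw [e, cjg_mul, h1]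

end Cfsg.Agent.Helper18.TwF4
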