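import Cfsg.Agent.Helper18.TwF4.Defs
import Cfsg.Agent.Helper36.F4Cells

/-!
Helper18 / automorphisms of `²F₄(q)`, PIECE PA (the cells `B¹ s_a B¹ = B¹ s_a X_a`).
-/

set_option autoImplicit false
set_option maxRecDepth 100000

namespace Cfsg.Agent.Helper18.TwF4

open Cfsg Cfsg.Lie Cfsg.Agent.Helper18 Cfsg.Agent.Helper18.Aut Cfsg.Agent.Helper19.Twist
  Cfsg.Agent.Helper19.Poinc Cfsg.Agent.Helper19.Cox Cfsg.Agent.Helper6 Cfsg.Agent.S1080
  Cfsg.Agent.Helper18.Sub Cfsg.Agent.Helper36.F4Class Cfsg.Agent.Helper36.SigmaF4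
  Cfsg.Agent.Helper36.SigmaChev Cfsg.Agent.Helper36.B2Class

/-- the cells of the two folded generators -/
theorem cellAux_cellOK : ∀ a : Fin 2, cellOK (JF4 a.val) (XF4 a.val) = true := by
  decide +kernel

variable {K : Type*} [Field K] [CharP K 2] [Fintype K] {m : ℕ}

/-- PIECE PA: an element of `B¹ s B¹` (`s ∈ N ∩ G¹` a representative of the folded generator `w_a`) lies in
`B¹ s X_a`.
Hint: `g` is `σ`-fixed, so `hσ.fixed_bruhat` (see the proof of `spec_exists_decomp` in `Helper19/Twist/SpecCount.lean`)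
gives `g = u h n v` with `σ u = u`, `σ v = v`, `v ∈ bruhatU n = Um chevF4 K n`; `u, v ∈ G¹` by `hU_F4`; the Weyl group
elements of `n` and `s` agree (`DCgl_disjoint`, as in `spec_mem_cell_of_mem_DCgl`), so `n = s k` or `k s` with `k ∈ H`
and `Um n = Um s` (`Um_mul_diag`) `= listSubgroup (XF4 a)` (`Um_eq_list` with `cellOK`, `Helper36/F4Cells.lean`:
the cells of the words `[3,0]` / `[0,3]` and `[1,2,1,2]`).
(Proof: helper53.) -/
theorem cell_F4 (hK : Fintype.card K = 2 ^ (2 * m + 1)) (s : ↥(twistedF4 K (2 ^ m)))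
    (hsN : (s : GL chevF4.Idx K) ∈ chevF4.monomialSubgroup K) (a : Fin 2)
    (hθ : thetaF4 ⟨(s : GL chevF4.Idx K), hsN⟩ = gp Cfsg.Agent.Helper19.Poinc.certF4.M (JF4 a.val))
    (g b b' : ↥(twistedF4 K (2 ^ m))) (hb : (b : GL chevF4.Idx K) ∈ chevF4.borelSubgroup K)
    (hb' : (b' : GL chevF4.Idx K) ∈ chevF4.borelSubgroup K) (hg : g = b * s * b') :
    ∃ b₁ : ↥(twistedF4 K (2 ^ m)), (b₁ : GL chevF4.Idx K) ∈ chevF4.borelSubgroup K ∧
      ∃ x ∈ Xp K m a, g = b₁ * s * x := by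
  obtain ⟨σ, c, hσ, hG1, hG1fix, hU, -⟩ := exists_data_F4 (m := m) hK
  have h25 : CommHyp chevF4 K :=
    fun r s hr hs h1 h2 t u => Cfsg.Agent.S1025.result chevF4 hF4 r s hr hs h1 h2 t u
  have h42 : H42 chevF4 K := exists_bnPair (F := K) chevF4 hF4 h25
  have hUB : chevF4.posUnipotent K ≤ chevF4.borelSubgroup K := le_sup_left
  have hHB : chevF4.diagonalSubgroup K ≤ chevF4.borelSubgroup K := le_sup_right
  have hHN : chevF4.diagonalSubgroup K ≤ chevF4.monomialSubgroup K := le_sup_left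
  -- the Bruhat normal form of `g` with `σ`-fixed unipotent factors
  obtain ⟨u, h, n, v, hu, hh, hn, hv, e, hσu, hσv⟩ :=
    hσ.fixed_bruhat hF4 ⟨(g : GL chevF4.Idx K), hG1 g.2⟩ (hG1fix _ g.2)
  have e' : (g : GL chevF4.Idx K) = (u : GL chevF4.Idx K) * (h : GL chevF4.Idx K) * (n : GL chevF4.Idx K) * (v : GL chevF4.Idx K) := by
    have := congrArg Subtype.val e
    simpa using this
  have huG : (u : GL chevF4.Idx K) ∈ twistedF4 K (2 ^ m) := hU u hu hσu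
  have hvU : (v : GL chevF4.Idx K) ∈ chevF4.posUnipotent K :=
    Cfsg.Agent.Helper36.bruhatU_le_pos chevF4 _ hv
  have hvG : (v : GL chevF4.Idx K) ∈ twistedF4 K (2 ^ m) := hU v hvU hσv
  have hmG : (h : GL chevF4.Idx K) * (n : GL chevF4.Idx K) ∈ twistedF4 K (2 ^ m) :=
    Cfsg.Agent.Helper36.SigmaBruhat.monomial_mem (twistedF4 K (2 ^ m)) _ _ _ _
      (by rw [← e']; exact g.2) huG hvG
  have hmN : (h : GL chevF4.Idx K) * (n : GL chevF4.Idx K) ∈ chevF4.monomialSubgroup K :=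
    Subgroup.mul_mem _ (hHN hh) hn
  -- the two double cosets of `g`
  have hdcm : (g : GL chevF4.Idx K) ∈ DCgl chevF4 hF4 Cfsg.Agent.Helper19.Poinc.certF4
      (nConjHyp chevF4 hF4) (thetaF4 ⟨(h : GL chevF4.Idx K) * (n : GL chevF4.Idx K), hmN⟩) :=
    ⟨⟨(h : GL chevF4.Idx K) * (n : GL chevF4.Idx K), hmN⟩, theta_spec chevF4 hF4 _ (nConjHyp chevF4 hF4) _, by
      rw [DoubleCoset.mem_doubleCoset]
      exact ⟨u, hUB hu, v, hUB hvU, by rw [e']; group⟩⟩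
  have hdcs : (g : GL chevF4.Idx K) ∈ DCgl chevF4 hF4 Cfsg.Agent.Helper19.Poinc.certF4
      (nConjHyp chevF4 hF4) (thetaF4 ⟨(s : GL chevF4.Idx K), hsN⟩) :=
    ⟨⟨(s : GL chevF4.Idx K), hsN⟩, theta_spec chevF4 hF4 _ (nConjHyp chevF4 hF4) _, by
      rw [DoubleCoset.mem_doubleCoset]
      exact ⟨b, hb, b', hb', by rw [hg]; rfl⟩⟩
  have hw : thetaF4 ⟨(h : GL chevF4.Idx K) * (n : GL chevF4.Idx K), hmN⟩ = thetaF4 ⟨(s : GL chevF4.Idx K), hsN⟩ :=
    DCgl_disjoint chevF4 hF4 Cfsg.Agent.Helper19.Poinc.certF4 (nConjHyp chevF4 hF4) h42 _ _ _ hdcm hdcs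
  -- `h n s⁻¹ ∈ H`
  have hk : (((⟨(h : GL chevF4.Idx K) * (n : GL chevF4.Idx K), hmN⟩ : ↥(chevF4.monomialSubgroup K)) *
      (⟨(s : GL chevF4.Idx K), hsN⟩ : ↥(chevF4.monomialSubgroup K))⁻¹ :
        ↥(chevF4.monomialSubgroup K)) : GL chevF4.Idx K) ∈ chevF4.diagonalSubgroup K := by
    rw [← theta_eq_one_iff chevF4 hF4 Cfsg.Agent.Helper19.Poinc.certF4 (nConjHyp chevF4 hF4), map_mul,
      map_inv]
    show thetaF4 _ * (thetaF4 _)⁻¹ = 1
    rw [hw, mul_inv_cancel]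
  rw [Subgroup.coe_mul, Subgroup.coe_inv] at hk
  have hk' : (h : GL chevF4.Idx K) * (n : GL chevF4.Idx K) * (s : GL chevF4.Idx K)⁻¹ ∈ chevF4.diagonalSubgroup K := hk
  have hkG : (h : GL chevF4.Idx K) * (n : GL chevF4.Idx K) * (s : GL chevF4.Idx K)⁻¹ ∈ twistedF4 K (2 ^ m) :=
    Subgroup.mul_mem _ hmG (Subgroup.inv_mem _ s.2)
  -- the Weyl group element of `n`
  have hθn : thetaF4 ⟨(n : GL chevF4.Idx K), hn⟩ =
      gp Cfsg.Agent.Helper19.Poinc.certF4.M (JF4 a.val) := by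
    have e1 : (⟨(h : GL chevF4.Idx K) * (n : GL chevF4.Idx K), hmN⟩ : ↥(chevF4.monomialSubgroup K)) =
        ⟨(h : GL chevF4.Idx K), hHN hh⟩ * ⟨(n : GL chevF4.Idx K), hn⟩ := rfl
    have e2 : thetaF4 (⟨(h : GL chevF4.Idx K), hHN hh⟩ : ↥(chevF4.monomialSubgroup K)) = 1 :=
      (theta_eq_one_iff chevF4 hF4 Cfsg.Agent.Helper19.Poinc.certF4 (nConjHyp chevF4 hF4) _).mpr hh
    rw [← hθ, ← hw, e1, map_mul, e2, one_mul]
  have hcell : Cfsg.Agent.Helper36.FieldFix.Um chevF4 K (n : GL chevF4.Idx K) =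
      listSubgroup chevF4 K (XF4 a.val) :=
    Um_eq_list (n : GL chevF4.Idx K) hn (JF4 a.val) (XF4 a.val) hθn (cellAux_cellOK a)
  refine ⟨⟨(u : GL chevF4.Idx K) * ((h : GL chevF4.Idx K) * (n : GL chevF4.Idx K) * (s : GL chevF4.Idx K)⁻¹),
    Subgroup.mul_mem _ huG hkG⟩, Subgroup.mul_mem _ (hUB hu) (hHB hk'), ⟨(v : GL chevF4.Idx K), hvG⟩, ?_, ?_⟩
  · unfold Xp
    rw [Subgroup.mem_subgroupOf, ← hcell]
    exact hv
  · apply Subtype.ext
    show (g : GL chevF4.Idx K) = (u : GL chevF4.Idx K) * ((h : GL chevF4.Idx K) * (n : GL chevF4.Idx K) * (s : GL chevF4.Idx K)⁻¹) *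
      (s : GL chevF4.Idx K) * (v : GL chevF4.Idx K)
    rw [e']
    group

end Cfsg.Agent.Helper18.TwF4
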