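import Cfsg.Agent.Helper18.TwF4.Defs

/-!
Helper18 / automorphisms of `²F₄(q)`, PIECE CJ (the fundamental reflections exchange `X_a` and `X_{-a}`).
-/

set_option autoImplicit false
set_option maxRecDepth 100000

namespace Cfsg.Agent.Helper18.TwF4

open Cfsg Cfsg.Lie Cfsg.Agent.Helper18 Cfsg.Agent.Helper18.Aut Cfsg.Agent.Helper19.Twist
  Cfsg.Agent.Helper19.Poinc Cfsg.Agent.Helper19.Cox Cfsg.Agent.Helper6 Cfsg.Agent.S1080
  Cfsg.Agent.Helper18.Sub Cfsg.Agent.Helper36.F4Class Cfsg.Agent.Helper36.SigmaF4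
  Cfsg.Agent.Helper36.SigmaChev Cfsg.Agent.Helper36.B2Class

variable {K : Type*} [Field K] [CharP K 2] [Fintype K] {m : ℕ}

/-- (aux, helper48) the folded generator `w_a` maps `XF4 a` into `XF4m a` -/
theorem CJ_actW_pm : ∀ a < 2, ∀ r ∈ XF4 a,
    actW Cfsg.Agent.Helper18.reflTabsF4 4 48 (JF4 a) r ∈ XF4m a := by
  decide

/-- (aux, helper48) the folded generator `w_a` maps `XF4m a` into `XF4 a` -/
theorem CJ_actW_mp : ∀ a < 2, ∀ r ∈ XF4m a,
    actW Cfsg.Agent.Helper18.reflTabsF4 4 48 (JF4 a) r ∈ XF4 a := by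
  decide

theorem CJ_XF4_lt : ∀ a < 2, ∀ r ∈ XF4 a, r < 48 := by decide

theorem CJ_XF4m_lt : ∀ a < 2, ∀ r ∈ XF4m a, r < 48 := by decide

omit [CharP K 2] [Fintype K] in
/-- (aux, helper48) `conj_listSubgroup_le` for `F₄` without the finiteness assumption -/
theorem CJ_conj_listSubgroup_le (n : ↥(chevF4.monomialSubgroup K)) (J S : List ℕ)
    (hJlt : ∀ r ∈ J, r < chevF4.nroots)
    (hmap : ∀ r ∈ J, phi Cfsg.Agent.Helper19.Poinc.certF4.M Cfsg.Agent.Helper19.Poinc.certF4.Mx Cfsg.Agent.Helper19.Poinc.certF4.hI Cfsg.Agent.Helper19.Poinc.certF4.hB Cfsg.Agent.Helper19.Poinc.certF4.hMx (thetaF4 n) r ∈ S) :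
    (listSubgroup chevF4 K J).map (MulAut.conj (n : GL chevF4.Idx K)).toMonoidHom ≤ listSubgroup chevF4 K S := by
  have htri := triOK_of_mem chevF4 hF4
  unfold listSubgroup
  rw [MonoidHom.map_closure, Subgroup.closure_le]
  rintro y ⟨x, ⟨r, t, hr, hx⟩, rfl⟩
  have e : x = xGL chevF4 K r t := Units.ext (by rw [hx, xGL_val chevF4 _ htri])
  obtain ⟨hlt, t', e1⟩ := conj_rep chevF4 hF4 Cfsg.Agent.Helper19.Poinc.certF4 (Cfsg.Agent.Helper18.nConjHyp chevF4 hF4) _ n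
    (theta_spec chevF4 hF4 Cfsg.Agent.Helper19.Poinc.certF4 (Cfsg.Agent.Helper18.nConjHyp chevF4 hF4) n) r (hJlt r hr) t
  have e2 : (MulAut.conj (n : GL chevF4.Idx K)).toMonoidHom x =
      xGL chevF4 K (phi Cfsg.Agent.Helper19.Poinc.certF4.M Cfsg.Agent.Helper19.Poinc.certF4.Mx Cfsg.Agent.Helper19.Poinc.certF4.hI Cfsg.Agent.Helper19.Poinc.certF4.hB Cfsg.Agent.Helper19.Poinc.certF4.hMx (thetaF4 n) r) t' := by
    rw [e]; exact e1
  rw [e2]
  apply Subgroup.subset_closure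
  exact ⟨_, t', hmap r hr, xGL_val chevF4 _ htri _ _⟩

omit [CharP K 2] [Fintype K] in
/-- (aux, helper48) an element of `N` mapping to `w_a` or its inverse carries the subgroup of a list `J` into that of
`S` as soon as `w_a` maps `J` into `S` -/
theorem CJ_conj_le (n : ↥(chevF4.monomialSubgroup K)) (a : ℕ) (ha : a < 2)
    (hθ : thetaF4 n = gp Cfsg.Agent.Helper19.Poinc.certF4.M (JF4 a)) (J S : List ℕ)
    (hJ : ∀ r ∈ J, r < 48)
    (hmap : ∀ r ∈ J, actW Cfsg.Agent.Helper18.reflTabsF4 4 48 (JF4 a) r ∈ S) :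
    cjg (n : GL chevF4.Idx K) (listSubgroup chevF4 K J) ≤ listSubgroup chevF4 K S ∧
    cjg ((n : GL chevF4.Idx K)⁻¹) (listSubgroup chevF4 K J) ≤ listSubgroup chevF4 K S := by
  have e2 : theta chevF4 hF4 Cfsg.Agent.Helper19.Poinc.certF4 (Cfsg.Agent.Helper18.nConjHyp chevF4 hF4) n =
      gp Cfsg.Agent.Helper19.Poinc.certF4.M (JF4 a) := hθ
  have einv : (gp Cfsg.Agent.Helper19.Poinc.certF4.M (JF4 a))⁻¹ = gp Cfsg.Agent.Helper19.Poinc.certF4.M (JF4 a) :=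
    inv_eq_of_mul_eq_one_left (hsq_F4 a ha)
  constructor
  · unfold cjg
    apply CJ_conj_listSubgroup_le n J S hJ
    intro r hr
    rw [hθ, phi_gp]
    exact hmap r hr
  · have := CJ_conj_listSubgroup_le (n⁻¹ : ↥(chevF4.monomialSubgroup K)) J S hJ (by
        intro r hr
        rw [map_inv, hθ, einv, phi_gp]
        exact hmap r hr)
    exact this

omit [CharP K 2] [Fintype K] in
/-- PIECE CJ: a representative `s ∈ N ∩ G¹` of the folded generator `w_a = gp (JF4 a)` conjugates `X_a` onto `X_{-a}`,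
and so does `s⁻¹`.
Hint: in the ambient group `n (listSubgroup L) n⁻¹ ≤ listSubgroup (L.map w)` (`conj_listSubgroup_le`, see its use in
`Helper18/Tw/P_Opp.lean`), `w = phi ... (theta n)`; `w_a` maps `XF4 a` onto `XF4m a` and back (`phi_gp`, `decide`);
`theta s⁻¹ = (gp (JF4 a))⁻¹ = gp (JF4 a)` (`hsq_F4`). Apply it to `s` and `s⁻¹` to get both inclusions, then
`cjg_subgroupOf`. -/
theorem cjg_s_Xp (s : ↥(twistedF4 K (2 ^ m))) (hsN : (s : GL chevF4.Idx K) ∈ chevF4.monomialSubgroup K)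
    (a : Fin 2) (hθ : thetaF4 ⟨(s : GL chevF4.Idx K), hsN⟩ = gp Cfsg.Agent.Helper19.Poinc.certF4.M (JF4 a.val)) :
    cjg s (Xp K m a) = Xm K m a ∧ cjg s⁻¹ (Xp K m a) = Xm K m a := by
  obtain ⟨h1, h1'⟩ := CJ_conj_le (K := K) ⟨(s : GL chevF4.Idx K), hsN⟩ a.val a.isLt hθ (XF4 a.val) (XF4m a.val)
    (CJ_XF4_lt a.val a.isLt) (CJ_actW_pm a.val a.isLt)
  obtain ⟨h2, h2'⟩ := CJ_conj_le (K := K) ⟨(s : GL chevF4.Idx K), hsN⟩ a.val a.isLt hθ (XF4m a.val) (XF4 a.val)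
    (CJ_XF4m_lt a.val a.isLt) (CJ_actW_mp a.val a.isLt)
  have e1 : cjg (s : GL chevF4.Idx K) (listSubgroup chevF4 K (XF4 a.val)) = listSubgroup chevF4 K (XF4m a.val) := by
    apply le_antisymm h1
    intro y hy
    rw [mem_cjg]
    have := h2' (conj_mem_cjg (g := (s : GL chevF4.Idx K)⁻¹) hy)
    simpa using this
  have e2 : cjg ((s : GL chevF4.Idx K)⁻¹) (listSubgroup chevF4 K (XF4 a.val)) =
      listSubgroup chevF4 K (XF4m a.val) := by
    apply le_antisymm h1'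
    intro y hy
    rw [mem_cjg]
    have := h2 (conj_mem_cjg (g := (s : GL chevF4.Idx K)) hy)
    simpa using this
  constructor
  · unfold Xp Xm
    rw [cjg_subgroupOf, e1]
  · unfold Xp Xm
    rw [cjg_subgroupOf]
    show (cjg ((s : GL chevF4.Idx K)⁻¹) _).subgroupOf _ = _
    rw [e2]

end Cfsg.Agent.Helper18.TwF4

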