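import Cfsg.Agent.Helper18.TwF4.Defs

/-!
Helper18 / automorphisms of `²F₄(q)`, PIECE N0 (the longest element).
-/

set_option autoImplicit false
set_option maxRecDepth 100000

namespace Cfsg.Agent.Helper18.TwF4

open Cfsg Cfsg.Lie Cfsg.Agent.Helper18 Cfsg.Agent.Helper18.Aut Cfsg.Agent.Helper19.Twist
  Cfsg.Agent.Helper19.Poinc Cfsg.Agent.Helper19.Cox Cfsg.Agent.Helper6 Cfsg.Agent.S1080
  Cfsg.Agent.Helper18.Sub Cfsg.Agent.Helper36.F4Class Cfsg.Agent.Helper36.SigmaF4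
  Cfsg.Agent.Helper36.SigmaChev Cfsg.Agent.Helper36.B2Class

/-- (aux) the longest word maps the roots of `X_{-a}` to those of `X_a` -/
theorem N0_act_m : ∀ a < 2, ∀ r ∈ XF4m a, actW Cfsg.Agent.Helper18.reflTabsF4 4 48 w0word r ∈ XF4 a := by
  decide

/-- (aux) the reversed longest word maps the roots of `X_a` to those of `X_{-a}` -/
theorem N0_act_p_rev : ∀ a < 2, ∀ r ∈ XF4 a,
    actW Cfsg.Agent.Helper18.reflTabsF4 4 48 w0word.reverse r ∈ XF4m a := by
  decide

theorem N0_XF4_lt : ∀ a < 2, ∀ r ∈ XF4 a, r < 48 := by decide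

theorem N0_XF4m_lt : ∀ a < 2, ∀ r ∈ XF4m a, r < 48 := by decide

variable {K : Type*} [Field K] [CharP K 2] [Fintype K] {m : ℕ}

/-- PIECE N0: a representative `n₀ ∈ N ∩ G¹` of the longest element: it exchanges `U¹` and `V¹` and conjugates `X_{-a}`
onto `X_a`. -/
theorem exists_n0_F4 (hK : Fintype.card K = 2 ^ (2 * m + 1)) :
    ∃ n₀ : ↥(twistedF4 K (2 ^ m)), ∃ hN : (n₀ : GL chevF4.Idx K) ∈ chevF4.monomialSubgroup K,
      thetaF4 ⟨(n₀ : GL chevF4.Idx K), hN⟩ = gp Cfsg.Agent.Helper19.Poinc.certF4.M w0word ∧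
      cjg n₀ (U1 K m) = V1 K m ∧ cjg n₀ (V1 K m) = U1 K m ∧ ∀ a : Fin 2, cjg n₀ (Xm K m a) = Xp K m a := by
  obtain ⟨σ, hσ⟩ := exists_sigma hK
  obtain ⟨n0, hn0G, hn0N, hn0θ⟩ := exists_n0 hK hσ
  have hpos := posOK_of_mem chevF4 hF4
  have htri := triOK_of_mem chevF4 hF4
  set nN : ↥(chevF4.monomialSubgroup K) := ⟨n0, hn0N⟩ with hnN
  have hθ : theta chevF4 hF4 Cfsg.Agent.Helper19.Poinc.certF4 (nConjHyp chevF4 hF4) nN =
      gp Cfsg.Agent.Helper19.Poinc.certF4.M w0word := hn0θ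
  have hspec := theta_spec chevF4 hF4 Cfsg.Agent.Helper19.Poinc.certF4 (nConjHyp chevF4 hF4) nN
  have hrep := conj_rep chevF4 hF4 Cfsg.Agent.Helper19.Poinc.certF4 (nConjHyp chevF4 hF4) _ nN hspec
  rw [hθ] at hrep
  -- every positive root goes to a negative root
  have hclaim : ∀ r, chevF4.IsPosRoot r → chevF4.IsNegRoot
      (phi Cfsg.Agent.Helper19.Poinc.certF4.M Cfsg.Agent.Helper19.Poinc.certF4.Mx
        Cfsg.Agent.Helper19.Poinc.certF4.hI Cfsg.Agent.Helper19.Poinc.certF4.hB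
        Cfsg.Agent.Helper19.Poinc.certF4.hMx (gp Cfsg.Agent.Helper19.Poinc.certF4.M w0word) r) := by
    intro r hr
    have hr' := (isPosRoot_iff chevF4 _ hpos r).mp hr
    have hlt := (hrep r hr'.2 0).1
    rcases pos_or_neg chevF4 hF4 _ hlt with hp | hq'
    swap
    · exact hq'
    exfalso
    have hp' := (isPosRoot_iff chevF4 _ hpos _).mp hp
    rw [hlf_F4] at hr' hp'
    rw [phi_gp] at hp'
    have h1 := w0word_neg r hr'.2 hr'.1
    have h2 : actW Cfsg.Agent.Helper18.reflTabsF4 4 48 w0word r =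
        actW Cfsg.Agent.Helper19.Poinc.certF4.tabs chevF4.rank chevF4.nroots w0word r := rfl
    rw [h2] at h1
    omega
  have hle : cjg n0 (chevF4.posUnipotent K) ≤ chevF4.negUnipotent K := by
    unfold cjg
    rw [Subgroup.map_le_iff_le_comap]
    conv_lhs => unfold ChevalleyDatum.posUnipotent
    rw [Subgroup.closure_le]
    rintro g ⟨r, t, hr, hg⟩
    have hr' := (isPosRoot_iff chevF4 _ hpos r).mp hr
    have e : g = xGL chevF4 K r t := Units.ext (by rw [hg, xGL_val chevF4 _ htri])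
    rw [SetLike.mem_coe, Subgroup.mem_comap]
    show n0 * g * n0⁻¹ ∈ _
    obtain ⟨-, t', ht'⟩ := hrep r hr'.2 t
    rw [e]
    have : (nN : GL chevF4.Idx K) = n0 := rfl
    rw [this] at ht'
    rw [ht']
    exact rootSubgroup_le_neg chevF4 _ (hclaim r hr) (Cfsg.Agent.Helper18.Aut.xGL_mem_rootSubgroup chevF4 hF4 _ _)
  have hdis : cjg n0 (chevF4.posUnipotent K) ⊓ chevF4.posUnipotent K = ⊥ := by
    apply le_antisymm _ bot_le
    rw [← pos_inf_neg' (F := K) chevF4 hF4, inf_comm]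
    exact inf_le_inf_left _ hle
  have hUV : cjg n0 (chevF4.posUnipotent K) = chevF4.negUnipotent K := cjg_pos_eq_neg chevF4 hF4 _ hn0N hdis
  have hVU : cjg n0 (chevF4.negUnipotent K) = chevF4.posUnipotent K := cjg_n0_neg chevF4 hF4 _ hn0N hUV
  refine ⟨⟨n0, hn0G⟩, hn0N, hn0θ, ?_, ?_, ?_⟩
  · unfold U1 V1
    rw [cjg_subgroupOf]
    exact congrArg (fun S => Subgroup.subgroupOf S (twistedF4 K (2 ^ m))) hUV
  · unfold U1 V1
    rw [cjg_subgroupOf]
    exact congrArg (fun S => Subgroup.subgroupOf S (twistedF4 K (2 ^ m))) hVU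
  · intro a
    -- the two inclusions in the ambient group
    have h1 : cjg n0 (listSubgroup chevF4 K (XF4m a.val)) ≤ listSubgroup chevF4 K (XF4 a.val) := by
      unfold cjg
      apply conj_listSubgroup_le (K := K) hF4 Cfsg.Agent.Helper19.Poinc.certF4 (nConjHyp chevF4 hF4) nN
        (XF4m a.val) (XF4 a.val) (N0_XF4m_lt a.val a.isLt)
      intro r hr
      rw [hθ, phi_gp]
      exact N0_act_m a.val a.isLt r hr
    have hθinv : theta chevF4 hF4 Cfsg.Agent.Helper19.Poinc.certF4 (nConjHyp chevF4 hF4) nN⁻¹ =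
        gp Cfsg.Agent.Helper19.Poinc.certF4.M w0word.reverse := by
      rw [map_inv, hθ, gp_reverse]
    have h2 : cjg n0⁻¹ (listSubgroup chevF4 K (XF4 a.val)) ≤ listSubgroup chevF4 K (XF4m a.val) := by
      have := conj_listSubgroup_le (K := K) hF4 Cfsg.Agent.Helper19.Poinc.certF4 (nConjHyp chevF4 hF4) nN⁻¹
        (XF4 a.val) (XF4m a.val) (N0_XF4_lt a.val a.isLt) (by
          intro r hr
          rw [hθinv, phi_gp]
          exact N0_act_p_rev a.val a.isLt r hr)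
      exact this
    have e1 : cjg n0 (listSubgroup chevF4 K (XF4m a.val)) = listSubgroup chevF4 K (XF4 a.val) := by
      apply le_antisymm h1
      intro y hy
      rw [mem_cjg]
      have := h2 (conj_mem_cjg (g := n0⁻¹) hy)
      simpa using this
    unfold Xp Xm
    rw [cjg_subgroupOf]
    exact congrArg (fun S => Subgroup.subgroupOf S (twistedF4 K (2 ^ m))) e1

end Cfsg.Agent.Helper18.TwF4
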