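import Cfsg.Agent.Helper18.TwF4.Defs

/-!
Helper18 / automorphisms of `²F₄(q)`, PIECE OP (opposite Sylow subgroups).
-/

set_option autoImplicit false
set_option maxRecDepth 100000

namespace Cfsg.Agent.Helper18.TwF4

open Cfsg Cfsg.Lie Cfsg.Agent.Helper18 Cfsg.Agent.Helper18.Aut Cfsg.Agent.Helper19.Twist
  Cfsg.Agent.Helper19.Poinc Cfsg.Agent.Helper19.Cox Cfsg.Agent.Helper6 Cfsg.Agent.S1080
  Cfsg.Agent.Helper18.Sub Cfsg.Agent.Helper36.F4Class Cfsg.Agent.Helper36.SigmaF4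
  Cfsg.Agent.Helper36.SigmaChev Cfsg.Agent.Helper36.B2Class

/-- for each of the fifteen words other than the longest one, one of the two fundamental classes is sent to
positive roots -/
theorem opp16_pos_ok : (List.range 16).all (fun i => decide (i = 8) ||
    (List.range 2).any fun a => (XF4 a).all fun r =>
      decide (24 ≤ actW reflTabsF4 4 48 (wordOf (LW16.getD i [])) r)) = true := by
  decide +kernel

/-- the longest word sends every positive root to a negative one -/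
theorem opp16_long_ok : (List.range 48).all (fun r => decide (r < 24) ||
    decide (actW reflTabsF4 4 48 (wordOf (LW16.getD 8 [])) r < 24)) = true := by
  decide +kernel

variable {K : Type*} [Field K] [CharP K 2] [Fintype K] {m : ℕ}

/-- PIECE OP: an element `n` of `N¹` with `n U¹ n⁻¹ ∩ U¹ = 1` has `n U¹ n⁻¹ = V¹`.
Hint: `w = thetaF4 n` commutes with `ρ` (`spec_theta_isFix` / `thetaTw_mem`), so `w` is one of the 16 words of
`mem_words16` (`Helper36/F4Cells.lean`). If `w ≠ w₀` then (check the 15 words by `decide`) for `a = 0` or `a = 1` all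
roots of `XF4 a` are sent to positive roots; a nontrivial `x ∈ listSubgroup (XF4 a) ⊓ G¹` (`PpG m 1`, `BpG m 1 0`,
as in `exists_data_F4`) has `n x n⁻¹ ∈ U` (`conj_listSubgroup_le`), contradicting the hypothesis. If `w = w₀`
all positive roots go to negative roots and `cjg_pos_eq_neg` / `cjg_subgroupOf` conclude.
Compare `Helper18/Tw/P_Opp.lean` (the `³D₄` analogue). -/
theorem opp_F4 (hK : Fintype.card K = 2 ^ (2 * m + 1)) (n : ↥(twistedF4 K (2 ^ m)))
    (hn : (n : GL chevF4.Idx K) ∈ chevF4.monomialSubgroup K)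
    (h : cjg n (U1 K m) ⊓ U1 K m = ⊥) : cjg n (U1 K m) = V1 K m := by
  obtain ⟨σ, hσ⟩ := exists_sigma hK
  obtain ⟨-, -, -, -, -, -, -, -, -, hx, -⟩ := exists_data_F4 (m := m) hK
  have hpos := posOK_of_mem chevF4 hF4
  have htri := triOK_of_mem chevF4 hF4
  set nN : ↥(chevF4.monomialSubgroup K) := ⟨(n : GL chevF4.Idx K), hn⟩ with hnN
  set w := theta chevF4 hF4 Cfsg.Agent.Helper19.Poinc.certF4 (nConjHyp chevF4 hF4) nN with hw
  have hwfix : w ∈ fixF4 := thetaTw_mem hK hσ ⟨(n : GL chevF4.Idx K), Subgroup.mem_inf.mpr ⟨hn, n.2⟩⟩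
  obtain ⟨i, hi, hwi⟩ := mem_words16 w (isFix_F4_mem w ((mem_fixF4 w).mp hwfix))
  have hspec := theta_spec chevF4 hF4 Cfsg.Agent.Helper19.Poinc.certF4 (nConjHyp chevF4 hF4) nN
  have hrep := conj_rep chevF4 hF4 Cfsg.Agent.Helper19.Poinc.certF4 (nConjHyp chevF4 hF4) w nN hspec
  set φ := phi Cfsg.Agent.Helper19.Poinc.certF4.M Cfsg.Agent.Helper19.Poinc.certF4.Mx Cfsg.Agent.Helper19.Poinc.certF4.hI Cfsg.Agent.Helper19.Poinc.certF4.hB Cfsg.Agent.Helper19.Poinc.certF4.hMx w with hφ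
  have hφlt : ∀ s < chevF4.nroots, φ s < chevF4.nroots := fun s hs => (hrep s hs 0).1
  have hφact : ∀ s, φ s = actW reflTabsF4 4 48 (wordOf (LW16.getD i [])) s := by
    intro s
    rw [hφ, hwi, phi_gp]
    rfl
  have hlistU : ∀ L : List ℕ, (∀ s ∈ L, hlfOf chevF4 ≤ s ∧ s < chevF4.nroots) →
      listSubgroup chevF4 K L ≤ chevF4.posUnipotent K := by
    intro L hL
    unfold listSubgroup ChevalleyDatum.posUnipotent
    apply Subgroup.closure_mono
    rintro g ⟨s, t, hs, hg⟩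
    exact ⟨s, t, (isPosRoot_iff chevF4 _ hpos s).mpr (hL s hs), hg⟩
  -- the word is the longest one
  have hi8 : i = 8 := by
    by_contra hne
    have h1 := List.all_eq_true.mp opp16_pos_ok i (List.mem_range.mpr hi)
    rw [Bool.or_eq_true, decide_eq_true_eq] at h1
    rcases h1 with h1 | h1
    · exact hne h1
    rw [List.any_eq_true] at h1
    obtain ⟨a, ha, h2⟩ := h1
    rw [List.all_eq_true] at h2
    have ha2 : a < 2 := List.mem_range.mp ha
    obtain ⟨x, hx1, hne1⟩ := hx a ha2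
    obtain ⟨hxL, hxG⟩ := Subgroup.mem_inf.mp hx1
    have hSpos : ∀ s ∈ XF4 a, hlfOf chevF4 ≤ s ∧ s < chevF4.nroots :=
      fun s hs => (hX_F4 a ha2 s hs).1
    have himg : ∀ s ∈ XF4 a, hlfOf chevF4 ≤ φ s ∧ φ s < chevF4.nroots := by
      intro s hs
      refine ⟨?_, hφlt s (hSpos s hs).2⟩
      rw [hφact, hlf_F4]
      exact of_decide_eq_true (h2 s hs)
    have hxU : x ∈ chevF4.posUnipotent K := hlistU (XF4 a) hSpos hxL
    have hconj := conj_listSubgroup_le (K := K) hF4 Cfsg.Agent.Helper19.Poinc.certF4 (nConjHyp chevF4 hF4) nN (XF4 a) ((XF4 a).map φ)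
      (fun s hs => (hSpos s hs).2) (fun s hs => List.mem_map.mpr ⟨s, hs, rfl⟩)
    have hyU : (n : GL chevF4.Idx K) * x * (n : GL chevF4.Idx K)⁻¹ ∈ chevF4.posUnipotent K := by
      apply hlistU ((XF4 a).map φ)
      · intro s' hs'
        obtain ⟨s, hs, rfl⟩ := List.mem_map.mp hs'
        exact himg s hs
      · apply hconj
        exact ⟨x, hxL, rfl⟩
    have hy : n * (⟨x, hxG⟩ : ↥(twistedF4 K (2 ^ m))) * n⁻¹ ∈ cjg n (U1 K m) ⊓ U1 K m := by
      refine Subgroup.mem_inf.mpr ⟨conj_mem_cjg (Subgroup.mem_subgroupOf.mpr hxU), ?_⟩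
      exact Subgroup.mem_subgroupOf.mpr hyU
    rw [h, Subgroup.mem_bot] at hy
    apply hne1
    have h1 : (⟨x, hxG⟩ : ↥(twistedF4 K (2 ^ m))) = n⁻¹ * (n * ⟨x, hxG⟩ * n⁻¹) * n := by group
    rw [hy] at h1
    have h2 : (⟨x, hxG⟩ : ↥(twistedF4 K (2 ^ m))) = 1 := by rw [h1]; group
    exact congrArg Subtype.val h2
  subst hi8
  -- every positive root goes to a negative root
  have hclaim : ∀ r, chevF4.IsPosRoot r → chevF4.IsNegRoot (φ r) := by
    intro r hr
    have hr' := (isPosRoot_iff chevF4 _ hpos r).mp hr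
    rcases pos_or_neg chevF4 hF4 _ (hφlt r hr'.2) with hp | hq'
    swap
    · exact hq'
    exfalso
    have hp' := (isPosRoot_iff chevF4 _ hpos _).mp hp
    have h1 := List.all_eq_true.mp opp16_long_ok r (List.mem_range.mpr hr'.2)
    rw [Bool.or_eq_true, decide_eq_true_eq, decide_eq_true_eq] at h1
    rw [hlf_F4] at hr' hp'
    rw [hφact] at hp'
    omega
  -- so `n U n⁻¹ ≤ V`
  have hle : cjg (n : GL chevF4.Idx K) (chevF4.posUnipotent K) ≤ chevF4.negUnipotent K := by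
    unfold cjg
    rw [Subgroup.map_le_iff_le_comap]
    conv_lhs => unfold ChevalleyDatum.posUnipotent
    rw [Subgroup.closure_le]
    rintro g ⟨r, t, hr, hg⟩
    have hr' := (isPosRoot_iff chevF4 _ hpos r).mp hr
    have e : g = xGL chevF4 K r t := Units.ext (by rw [hg, xGL_val chevF4 _ htri])
    rw [SetLike.mem_coe, Subgroup.mem_comap]
    show (n : GL chevF4.Idx K) * g * (n : GL chevF4.Idx K)⁻¹ ∈ _
    obtain ⟨-, t', ht'⟩ := hrep r hr'.2 t
    rw [e, ht']
    exact rootSubgroup_le_neg chevF4 _ (hclaim r hr) (Cfsg.Agent.Helper18.Aut.xGL_mem_rootSubgroup chevF4 hF4 _ _)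
  have hdis : cjg (n : GL chevF4.Idx K) (chevF4.posUnipotent K) ⊓ chevF4.posUnipotent K = ⊥ := by
    apply le_antisymm _ bot_le
    rw [← pos_inf_neg' (F := K) chevF4 hF4, inf_comm]
    exact inf_le_inf_left _ hle
  unfold U1 V1
  rw [cjg_subgroupOf, cjg_pos_eq_neg chevF4 hF4 _ hn hdis]

end Cfsg.Agent.Helper18.TwF4
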