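import Cfsg.Agent.Helper18.TwF4.Defs

/-!
Helper18 / automorphisms of `²F₄(q)`, PIECE SM (small facts on the fundamental root subgroups).
(Proofs: helper70.)
-/

set_option autoImplicit false
set_option maxRecDepth 100000

namespace Cfsg.Agent.Helper18.TwF4

open Cfsg Cfsg.Lie Cfsg.Agent.Helper18 Cfsg.Agent.Helper18.Aut Cfsg.Agent.Helper19.Twist
  Cfsg.Agent.Helper19.Poinc Cfsg.Agent.Helper19.Cox Cfsg.Agent.Helper6 Cfsg.Agent.S1080
  Cfsg.Agent.Helper18.Sub Cfsg.Agent.Helper36.F4Class Cfsg.Agent.Helper36.SigmaF4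
  Cfsg.Agent.Helper36.SigmaChev Cfsg.Agent.Helper36.B2Class

variable {K : Type*} [Field K] [CharP K 2] [Fintype K] {m : ℕ}

theorem SMF4_pos (a : Fin 2) : ∀ r ∈ XF4 a.val, chevF4.IsPosRoot r := by
  fin_cases a <;> decide

theorem SMF4_neg (a : Fin 2) : ∀ r ∈ XF4m a.val, chevF4.IsNegRoot r := by
  fin_cases a <;> decide

omit [CharP K 2] [Fintype K] in
/-- PIECE SM-1: `X_a ≤ U¹` (the roots of `XF4 a` are positive: `listSubgroup` is generated by root elements of positive
roots; compare `hlistU` in `Helper18/Tw/P_Opp.lean`) -/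
theorem Xp_le_U (a : Fin 2) : Xp K m a ≤ U1 K m := by
  unfold Xp U1 listSubgroup ChevalleyDatum.posUnipotent
  apply Subgroup.comap_mono
  apply Subgroup.closure_mono
  rintro g ⟨r, t, hr, hg⟩
  exact ⟨r, t, SMF4_pos a r hr, hg⟩

omit [CharP K 2] [Fintype K] in
/-- PIECE SM-2: `X_{-a} ≤ V¹` (the roots of `XF4m a` are negative) -/
theorem Xm_le_V (a : Fin 2) : Xm K m a ≤ V1 K m := by
  unfold Xm V1 listSubgroup ChevalleyDatum.negUnipotent
  apply Subgroup.comap_mono
  apply Subgroup.closure_mono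
  rintro g ⟨r, t, hr, hg⟩
  exact ⟨r, t, SMF4_neg a r hr, hg⟩

theorem SMF4_commOK (i j : Fin 2) (hij : i ≠ j) :
    ∀ r ∈ XF4 i.val, ∀ s ∈ XF4m j.val, commOK chevF4 r s = true := by
  fin_cases i <;> fin_cases j
  · exact absurd rfl hij
  · decide +kernel
  · decide +kernel
  · exact absurd rfl hij

omit [CharP K 2] [Fintype K] in
/-- the generators of `listSubgroup` are the `xGL` -/
theorem SMF4_gen_eq (g : GL chevF4.Idx K) (r : ℕ) (t : K)
    (hg : (g : Matrix chevF4.Idx chevF4.Idx K) = chevF4.x K r t) : g = xGL chevF4 K r t :=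
  Units.ext (by rw [hg, xGL_val chevF4 _ (triOK_of_mem chevF4 hF4) r t])

omit [CharP K 2] [Fintype K] in
/-- elementwise commuting list subgroups -/
theorem SMF4_list_comm (P Q : List ℕ) (h : ∀ r ∈ P, ∀ s ∈ Q, commOK chevF4 r s = true)
    (x : GL chevF4.Idx K) (hx : x ∈ listSubgroup chevF4 K P)
    (y : GL chevF4.Idx K) (hy : y ∈ listSubgroup chevF4 K Q) : Commute x y := by
  have h1 : listSubgroup chevF4 K Q ≤ Subgroup.centralizer {x} := by
    unfold listSubgroup
    rw [Subgroup.closure_le]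
    rintro g ⟨s, u, hs, hg⟩
    rw [SetLike.mem_coe, Subgroup.mem_centralizer_singleton_iff]
    have h2 : listSubgroup chevF4 K P ≤ Subgroup.centralizer {g} := by
      unfold listSubgroup
      rw [Subgroup.closure_le]
      rintro g' ⟨r, t, hr, hg'⟩
      rw [SetLike.mem_coe, Subgroup.mem_centralizer_singleton_iff]
      rw [SMF4_gen_eq g s u hg, SMF4_gen_eq g' r t hg']
      exact (xGL_commute chevF4 hF4 r s (h r hr s hs) t u).eq
    have := h2 hx
    rw [Subgroup.mem_centralizer_singleton_iff] at this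
    exact this.symm
  have := h1 hy
  rw [Subgroup.mem_centralizer_singleton_iff] at this
  exact this.symm

omit [CharP K 2] [Fintype K] in
/-- PIECE SM-3: `X_i` and `X_{-j}` commute elementwise for `i ≠ j`.
Hint: for `r ∈ XF4 i`, `s ∈ XF4m j` no `a r + b s` (`a, b ≥ 1`) is a root and `r ≠ -s`, so `x_r(t)`, `x_s(u)` commute
(Chevalley commutator formula `Cfsg.Agent.S1025.result`, or `xGL_commute`/`hcommF4` of `Helper36/F4Class.lean`,
`Cfsg.Agent.Helper36.TwistF4.xGL_commute_even`); then `Subgroup.closure_induction` twice (or centralizer). -/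
theorem comm_F4 (i j : Fin 2) (hij : i ≠ j) (x : ↥(twistedF4 K (2 ^ m))) (hx : x ∈ Xp K m i)
    (y : ↥(twistedF4 K (2 ^ m))) (hy : y ∈ Xm K m j) : x * y = y * x := by
  apply Subtype.ext
  rw [Subgroup.coe_mul, Subgroup.coe_mul]
  exact (SMF4_list_comm (K := K) (XF4 i.val) (XF4m j.val) (SMF4_commOK i j hij)
    (x : GL chevF4.Idx K) (Subgroup.mem_subgroupOf.mp hx)
    (y : GL chevF4.Idx K) (Subgroup.mem_subgroupOf.mp hy)).eq

/-- PIECE SM-4: the fundamental root subgroups are not trivial (`xP m 1`, `xS m 1 0`; see the proof of `hx` in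
`exists_data_F4`, `Helper19/Twist/F4Inst.lean`: `PpG_mem_list`, `BpG_mem_list`, `two_inj`, `nfG_inj`) -/
theorem Xp_ne_bot (a : Fin 2) : ∃ x ∈ Xp K m a, x ≠ 1 := by
  fin_cases a
  · refine ⟨xP m (1 : K), ?_, ?_⟩
    · unfold Xp
      rw [Subgroup.mem_subgroupOf, xP_coe]
      exact PpG_mem_list (m := m) (1 : K)
    · intro h
      have h1 : ((PpG m (1 : K) : ↥(chevF4.group K)) : GL chevF4.Idx K) = 1 := by
        rw [← xP_coe, h]; rfl
      have h2 : PpG m (1 : K) = XG 24 1 * XG 33 (Cfsg.Agent.Helper36.F4Class.phi m 1) := (commute_P _ _).eq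
      rw [h2, Subgroup.coe_mul, XG_val, XG_val] at h1
      have h3 : xGL chevF4 K 24 (1 : K) * xGL chevF4 K 33 (Cfsg.Agent.Helper36.F4Class.phi m (1 : K)) =
          xGL chevF4 K 24 (0 : K) * xGL chevF4 K 33 (0 : K) := by
        rw [h1, Cfsg.Agent.Helper18.xGL_zero' chevF4 hF4, Cfsg.Agent.Helper18.xGL_zero' chevF4 hF4, mul_one]
      exact one_ne_zero (two_inj _ _ _ _ h3).1
  · refine ⟨xS m (1 : K) 0, ?_, ?_⟩
    · unfold Xp
      rw [Subgroup.mem_subgroupOf, xS_coe]
      exact BpG_mem_list (m := m) (1 : K) 0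
    · intro h
      have h1 : ((BpG m (1 : K) 0 : ↥(chevF4.group K)) : GL chevF4.Idx K) = 1 := by
        rw [← xS_coe, h]; rfl
      have h2 : BpG m (1 : K) 0 = 1 := Subtype.ext h1
      unfold BpG beta at h2
      rw [← Cfsg.Agent.Helper36.B2Class.nf_zero (relPG (K := K))] at h2
      exact one_ne_zero (nfG_inj _ _ _ _ _ _ _ _ h2).2.1

end Cfsg.Agent.Helper18.TwF4
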