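import Cfsg.Agent.Helper18.TwF4.P_Sylow
import Cfsg.Agent.Helper18.TwF4.P_Borel
import Cfsg.Agent.Helper18.TwF4.P_Small
import Cfsg.Agent.Helper18.TwF4.P_Conj
import Cfsg.Agent.Helper18.TwF4.P_N0
import Cfsg.Agent.Helper18.TwF4.P_Opp
import Cfsg.Agent.Helper18.TwF4.P_Cell

/-!
Helper18: the hypotheses `L1Hyp` of the abstract first reduction, and the rank one data `RankOne`, for the Ree groups
`²F₄(q)`, assembled from the pieces `P_*`.
-/

set_option autoImplicit false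
set_option maxRecDepth 100000

namespace Cfsg.Agent.Helper18.TwF4

open Cfsg Cfsg.Lie Cfsg.Agent.Helper18 Cfsg.Agent.Helper18.Aut Cfsg.Agent.Helper19.Twist
  Cfsg.Agent.Helper19.Poinc Cfsg.Agent.Helper19.Cox Cfsg.Agent.Helper6 Cfsg.Agent.S1080
  Cfsg.Agent.Helper18.Sub Cfsg.Agent.Helper36.F4Class Cfsg.Agent.Helper36.SigmaF4
  Cfsg.Agent.Helper36.SigmaChev Cfsg.Agent.Helper36.B2Class

section Abs

variable {G : Type*} [Group G] {B V U Xp Xm : Subgroup G} {s : G}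

/-- `s` does not normalise `U` -/
theorem RankOne.s_not_norm (R : RankOne B V U Xp Xm s) : cjg s U ≠ U := by
  intro h
  obtain ⟨x, hx, hx1⟩ := R.exists_ne
  have h1 : s * x * s⁻¹ ∈ B ⊓ V := by
    refine Subgroup.mem_inf.mpr ⟨R.hUB ?_, R.hXmV (R.h1 x hx)⟩
    rw [← h]
    exact conj_mem_cjg (R.hXpU hx)
  rw [R.hBV, Subgroup.mem_bot] at h1
  apply hx1
  have : x = s⁻¹ * (s * x * s⁻¹) * s := by group
  rw [this, h1]; group

end Abs

section

variable {K : Type*} [Field K] [CharP K 2] [Fintype K] {m : ℕ}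

/-- the `(B, N)`-pair of `²F₄(q)` with its distinguished generators -/
theorem exists_bnPairS_F4 (hK : Fintype.card K = 2 ^ (2 * m + 1)) :
    ∃ (P : BNPair ↥(twistedF4 K (2 ^ m))) (s : Fin 2 → ↥(twistedF4 K (2 ^ m))),
      (∀ b : ↥(twistedF4 K (2 ^ m)), b ∈ P.B ↔ (b : GL chevF4.Idx K) ∈ chevF4.borelSubgroup K) ∧
      (∀ b : ↥(twistedF4 K (2 ^ m)), b ∈ P.N ↔ (b : GL chevF4.Idx K) ∈ chevF4.monomialSubgroup K) ∧
      P.S = Set.range s ∧
      ∀ a : Fin 2, ∃ hN : ((s a : ↥(twistedF4 K (2 ^ m))) : GL chevF4.Idx K) ∈ chevF4.monomialSubgroup K,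
        thetaF4 ⟨((s a : ↥(twistedF4 K (2 ^ m))) : GL chevF4.Idx K), hN⟩ =
          gp Cfsg.Agent.Helper19.Poinc.certF4.M (JF4 a.val) := by
  obtain ⟨σ, c, hσ, hG1, hG1fix, hU, s, hsG, hsθ, hx, -⟩ := exists_data_F4 (m := m) hK
  have h25 : CommHyp chevF4 K :=
    fun r s hr hs h1 h2 t u => Cfsg.Agent.S1025.result chevF4 hF4 r s hr hs h1 h2 t u
  have h42 : H42 chevF4 K := exists_bnPair (F := K) chevF4 hF4 h25
  obtain ⟨P, hB, hN, hS⟩ := spec_bnPair3 chevF4 hF4 Cfsg.Agent.Helper19.Poinc.certF4 (nConjHyp chevF4 hF4) hσ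
    Cfsg.Agent.Helper19.Twist.rootInjOK_F4 h42
    (twistedF4 K (2 ^ m)) hG1 hG1fix hU 2 JF4 hJ_F4 s hsG hsθ hfs_F4 hrange_F4 hsq_F4 hdist_F4 XF4 hX_F4 hx h25
  refine ⟨P, fun a => ⟨((s a.val : ↥(chevF4.monomialSubgroup K)) : GL chevF4.Idx K), hsG a.val a.2⟩, ?_, ?_, ?_, ?_⟩
  · intro b
    rw [hB, Subgroup.mem_subgroupOf, Subgroup.mem_inf]
    exact ⟨fun h => h.1, fun h => ⟨h, b.2⟩⟩
  · intro b
    rw [hN, Subgroup.mem_subgroupOf, Subgroup.mem_inf]
    exact ⟨fun h => h.1, fun h => ⟨h, b.2⟩⟩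
  · rw [hS]
    ext x
    constructor
    · rintro ⟨a, ha, hs⟩
      exact ⟨⟨a, ha⟩, Subtype.ext hs.symm⟩
    · rintro ⟨a, rfl⟩
      exact ⟨a.val, a.2, rfl⟩
  · intro a
    exact ⟨(s a.val).2, hsθ a.val a.2⟩

/-- the rank one data of the fundamental root subgroups -/
theorem rankOne_F4 (hK : Fintype.card K = 2 ^ (2 * m + 1)) (P : BNPair ↥(twistedF4 K (2 ^ m)))
    (hmemB : ∀ b : ↥(twistedF4 K (2 ^ m)), b ∈ P.B ↔ (b : GL chevF4.Idx K) ∈ chevF4.borelSubgroup K)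
    (s : ↥(twistedF4 K (2 ^ m))) (hsS : s ∈ P.S) (a : Fin 2)
    (hsN : (s : GL chevF4.Idx K) ∈ chevF4.monomialSubgroup K)
    (hθ : thetaF4 ⟨(s : GL chevF4.Idx K), hsN⟩ = gp Cfsg.Agent.Helper19.Poinc.certF4.M (JF4 a.val)) :
    RankOne P.B (V1 K m) (U1 K m) (Xp K m a) (Xm K m a) s := by
  obtain ⟨hc1, hc2⟩ := cjg_s_Xp s hsN a hθ
  have hBV : P.B ⊓ V1 K m = ⊥ := by
    ext x
    rw [Subgroup.mem_inf, hmemB, Subgroup.mem_bot]
    constructor
    · rintro ⟨h1, h2⟩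
      have : (x : GL chevF4.Idx K) ∈ chevF4.borelSubgroup K ⊓ chevF4.negUnipotent K :=
        Subgroup.mem_inf.mpr ⟨h1, Subgroup.mem_subgroupOf.mp h2⟩
      rw [(Cfsg.Agent.S1037.result (F := K) chevF4 hF4).1, Subgroup.mem_bot] at this
      exact Subtype.ext this
    · rintro rfl
      exact ⟨one_mem _, one_mem _⟩
  have hUB : U1 K m ≤ P.B := by
    intro x hx
    rw [hmemB]
    exact posUnipotent_le_borel chevF4 hF4 (Subgroup.mem_subgroupOf.mp hx)
  have h1 : ∀ x ∈ Xp K m a, s * x * s⁻¹ ∈ Xm K m a := by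
    intro x hx
    rw [← hc1]
    exact conj_mem_cjg hx
  have h1' : ∀ y ∈ Xm K m a, s⁻¹ * y * s ∈ Xp K m a := by
    intro y hy
    rw [← hc1] at hy
    exact mem_cjg.mp hy
  have hsP : s ∈ P.parabolic {s} := closure_le_parabolic P _ (Subgroup.subset_closure (Set.mem_singleton _))
  refine
    { hBV := hBV
      hUB := hUB
      hUn := ?_
      hXpU := Xp_le_U a
      hXmV := Xm_le_V a
      h1 := h1
      h1' := h1'
      h2 := ?_
      hcell := ?_
      hne := ?_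
      hfin := inferInstance }
  · intro b hb u hu
    have := U_norm_F4 (m := m) b ((hmemB b).mp hb)
    rw [← this]
    exact conj_mem_cjg hu
  · intro x hx
    rw [← hc2]
    have := conj_mem_cjg (g := s⁻¹) hx
    rwa [inv_inv] at this
  · intro y hy hy1
    have hyP : y ∈ P.parabolic {s} := by
      have e : y = s * (s⁻¹ * y * s) * s⁻¹ := by group
      rw [e]
      exact mul_mem (mul_mem hsP (B_le_parabolic P _ (hUB (Xp_le_U a (h1' y hy))))) (inv_mem hsP)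
    have hpar := parabolic_singleton (P := P) hsS
    have hy' : y ∈ (P.B : Set ↥(twistedF4 K (2 ^ m))) ∪ dc P s := by rw [← hpar]; exact hyP
    rcases hy' with hyB | hydc
    · exfalso
      have : y ∈ P.B ⊓ V1 K m := Subgroup.mem_inf.mpr ⟨hyB, Xm_le_V a hy⟩
      rw [hBV, Subgroup.mem_bot] at this
      exact hy1 this
    · obtain ⟨b1, hb1, b2, hb2, e⟩ := (mem_dc P).mp hydc
      obtain ⟨b, hb, x, hx, e'⟩ := cell_F4 hK s hsN a hθ y b1 b2 ((hmemB _).mp hb1) ((hmemB _).mp hb2) e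
      exact ⟨b, (hmemB _).mpr hb, x, hx, e'⟩
  · obtain ⟨x, hx, hx1⟩ := Xp_ne_bot (K := K) (m := m) a
    refine ⟨s * x * s⁻¹, h1 x hx, ?_⟩
    intro h
    apply hx1
    have : x = s⁻¹ * (s * x * s⁻¹) * s := by group
    rw [this, h]; group

/-- the hypotheses of the first reduction for `²F₄(q)` -/
theorem twF4_L1Hyp (hK : Fintype.card K = 2 ^ (2 * m + 1)) :
    haveI : Fact (Nat.Prime 2) := ⟨Nat.prime_two⟩
    ∃ (P : BNPair ↥(twistedF4 K (2 ^ m))) (s : Fin 2 → ↥(twistedF4 K (2 ^ m))) (n₀ : ↥(twistedF4 K (2 ^ m))),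
      (∀ b : ↥(twistedF4 K (2 ^ m)), b ∈ P.B ↔ (b : GL chevF4.Idx K) ∈ chevF4.borelSubgroup K) ∧
      (∀ b : ↥(twistedF4 K (2 ^ m)), b ∈ P.N ↔ (b : GL chevF4.Idx K) ∈ chevF4.monomialSubgroup K) ∧
      (∀ a : Fin 2, ∃ hN : ((s a : ↥(twistedF4 K (2 ^ m))) : GL chevF4.Idx K) ∈ chevF4.monomialSubgroup K,
        thetaF4 ⟨((s a : ↥(twistedF4 K (2 ^ m))) : GL chevF4.Idx K), hN⟩ =
          gp Cfsg.Agent.Helper19.Poinc.certF4.M (JF4 a.val)) ∧
      (∃ hN : (n₀ : GL chevF4.Idx K) ∈ chevF4.monomialSubgroup K,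
        thetaF4 ⟨(n₀ : GL chevF4.Idx K), hN⟩ = gp Cfsg.Agent.Helper19.Poinc.certF4.M w0word) ∧
      L1Hyp P 2 (U1 K m) (V1 K m) s (Xp K m) (Xm K m) n₀ id ∧
      ∀ a : Fin 2, RankOne P.B (V1 K m) (U1 K m) (Xp K m a) (Xm K m a) (s a) := by
  haveI : Fact (Nat.Prime 2) := ⟨Nat.prime_two⟩
  obtain ⟨P, s, hmemB, hmemN, hS, hs⟩ := exists_bnPairS_F4 (m := m) hK
  obtain ⟨n₀, hn₀N, hn₀θ, hn₀U, hn₀V, hn₀X⟩ := exists_n0_F4 (m := m) hK
  have hsS : ∀ a, s a ∈ P.S := fun a => by rw [hS]; exact ⟨a, rfl⟩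
  have hR : ∀ a : Fin 2, RankOne P.B (V1 K m) (U1 K m) (Xp K m a) (Xm K m a) (s a) := by
    intro a
    obtain ⟨hN, hθ⟩ := hs a
    exact rankOne_F4 hK P hmemB (s a) (hsS a) a hN hθ
  refine ⟨P, s, n₀, hmemB, hmemN, hs, ⟨hn₀N, hn₀θ⟩, ?_, hR⟩
  exact
    { sylow := sylow_F4 hK
      U_le := (hR 0).hUB
      U_norm := fun b hb => U_norm_F4 b ((hmemB b).mp hb)
      S_eq := hS
      s_not_norm := fun a => (hR a).s_not_norm
      B_inf_V := (hR 0).hBV
      n0_mem := (hmemN _).mpr hn₀N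
      n0_U := hn₀U
      n0_V := hn₀V
      opp := fun n hn h => opp_F4 hK n ((hmemN n).mp hn) h
      V_conj := fun b hb => V_conj_F4 hK b ((hmemB b).mp hb)
      Xm_le_V := Xm_le_V
      Xm_le_P := by
        intro a y hy
        have hsP : s a ∈ P.parabolic {s a} :=
          closure_le_parabolic P _ (Subgroup.subset_closure (Set.mem_singleton _))
        have e : y = s a * ((s a)⁻¹ * y * s a) * (s a)⁻¹ := by group
        rw [e]
        exact mul_mem (mul_mem hsP (B_le_parabolic P _ ((hR a).hUB ((hR a).hXpU ((hR a).h1' y hy)))))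
          (inv_mem hsP)
      para := by
        intro a g hg
        have hpar := parabolic_singleton (P := P) (hsS a)
        have hg' : g ∈ (P.B : Set ↥(twistedF4 K (2 ^ m))) ∪ dc P (s a) := by rw [← hpar]; exact hg
        rcases hg' with hgB | hgdc
        · left; exact hgB
        right
        obtain ⟨b1, hb1, b2, hb2, e⟩ := (mem_dc P).mp hgdc
        obtain ⟨hN, hθ⟩ := hs a
        obtain ⟨b, hb, x, hx, e'⟩ := cell_F4 hK (s a) hN a hθ g b1 b2 ((hmemB _).mp hb1) ((hmemB _).mp hb2) e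
        have hbB : b ∈ P.B := (hmemB _).mpr hb
        by_cases hx1 : x = 1
        · left
          exact ⟨b, hbB, by rw [e', hx1, mul_one]⟩
        · right
          obtain ⟨b', hb', y, hy, e2⟩ := (hR a).para x hx hx1
          refine ⟨b * b', mul_mem hbB hb', y, hy, ?_⟩
          rw [e', mul_assoc b, e2, mul_assoc]
      Xp_eq := hn₀X
      star_surj := Function.surjective_id
      comm := fun i j hij x hx y hy => comm_F4 i j hij x hx y hy
      ncomm := fun a => (hR a).ncomm }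

end

end Cfsg.Agent.Helper18.TwF4
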