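import Cfsg.Agent.Helper18.TwF4.Defs
import Cfsg.Agent.S1068
import Cfsg.Agent.S1090

/-!
Helper18 / automorphisms of `²F₄(q)`, PIECE SY (Sylow).
-/

set_option autoImplicit false
set_option maxRecDepth 100000

namespace Cfsg.Agent.Helper18.TwF4

open Cfsg Cfsg.Lie Cfsg.Agent.Helper18 Cfsg.Agent.Helper18.Aut Cfsg.Agent.Helper19.Twist
  Cfsg.Agent.Helper19.Poinc Cfsg.Agent.Helper19.Cox Cfsg.Agent.Helper6 Cfsg.Agent.S1080
  Cfsg.Agent.Helper18.Sub Cfsg.Agent.Helper36.F4Class Cfsg.Agent.Helper36.SigmaF4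
  Cfsg.Agent.Helper36.SigmaChev Cfsg.Agent.Helper36.B2Class

/-- If `q` is even then `q ^ n - 1` is odd (natural subtraction), `n > 0`. -/
theorem sylF4_not_dvd_pow_sub_one {q : ℕ} (hq : 2 ∣ q) (hq0 : 0 < q) (n : ℕ) (hn : 0 < n) :
    ¬ 2 ∣ q ^ n - 1 := by
  intro h
  have h1 : 1 ≤ q ^ n := Nat.one_le_pow _ _ hq0
  have h2 : 2 ∣ q ^ n := dvd_trans hq (dvd_pow_self q hn.ne')
  omega

/-- If `q` is even then `q ^ n + 1` is odd, `n > 0`. -/
theorem sylF4_not_dvd_pow_add_one {q : ℕ} (hq : 2 ∣ q) (n : ℕ) (hn : 0 < n) :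
    ¬ 2 ∣ q ^ n + 1 := by
  intro h
  have h2 : 2 ∣ q ^ n := dvd_trans hq (dvd_pow_self q hn.ne')
  omega

/-- A subgroup whose order is the full `2`-part is a Sylow `2`-subgroup. -/
theorem sylF4_exists_sylow_of_card {G : Type*} [Group G] [Finite G] (H : Subgroup G) (r N : ℕ)
    (hH : Nat.card H = 2 ^ N) (hG : Nat.card G = 2 ^ N * r) (hr : ¬ 2 ∣ r) :
    ∃ Q : Sylow 2 G, (Q : Subgroup G) = H := by
  have hPG : IsPGroup 2 H := IsPGroup.of_card hH
  have hidx : ¬ 2 ∣ H.index := by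
    have h1 := H.card_mul_index
    rw [hH, hG] at h1
    have h2 : H.index = r := Nat.eq_of_mul_eq_mul_left (pow_pos (by norm_num) N) h1
    rw [h2]
    exact hr
  exact ⟨hPG.toSylow hidx, rfl⟩

/-- PIECE SY: `U¹` is a Sylow `2`-subgroup of `G¹ = ²F₄(q)`.
Hint: `|G¹|` is `Cfsg.Agent.S1068.result`, `|U ⊓ G¹| = q^12` is `Cfsg.Agent.S1090.result`; the index is odd;
`IsPGroup.toSylow` (compare `Cfsg.Agent.Helper18.Tw.sylow_D4` in `Helper18/Tw/P_Sylow.lean`). -/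
theorem sylow_F4 {K : Type*} [Field K] [Fintype K] {m : ℕ} (hK : Fintype.card K = 2 ^ (2 * m + 1)) :
    haveI : Fact (Nat.Prime 2) := ⟨Nat.prime_two⟩
    ∃ Q : Sylow 2 ↥(twistedF4 K (2 ^ m)), (Q : Subgroup ↥(twistedF4 K (2 ^ m))) = U1 K m := by
  show ∃ Q : Sylow 2 ↥(twistedF4 K (2 ^ m)), (Q : Subgroup ↥(twistedF4 K (2 ^ m))) = U1 K m
  have hcardG := Cfsg.Agent.S1068.result hK
  have hcardU := Cfsg.Agent.S1090.result hK
  have hU1 : Nat.card ↥(U1 K m) = 2 ^ ((2 * m + 1) * 12) := by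
    have h1 : Nat.card ↥(U1 K m) = Nat.card ↥(chevF4.posUnipotent K ⊓ twistedF4 K (2 ^ m)) := by
      unfold U1
      rw [← Subgroup.inf_subgroupOf_right (chevF4.posUnipotent K) (twistedF4 K (2 ^ m))]
      exact Nat.card_congr (Subgroup.subgroupOfEquivOfLe
        (inf_le_right : chevF4.posUnipotent K ⊓ twistedF4 K (2 ^ m) ≤ twistedF4 K (2 ^ m))).toEquiv
    rw [h1, hcardU, ← pow_mul]
  have hq : (2 : ℕ) ∣ 2 ^ (2 * m + 1) := dvd_pow_self 2 (by omega)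
  have hq0 : 0 < 2 ^ (2 * m + 1) := pow_pos (by norm_num) _
  generalize hqdef : 2 ^ (2 * m + 1) = q at hcardG hq hq0
  refine sylF4_exists_sylow_of_card (U1 K m)
    ((q - 1) * (q ^ 3 + 1) * (q ^ 4 - 1) * (q ^ 6 + 1)) ((2 * m + 1) * 12) hU1 ?_ ?_
  · rw [hcardG, pow_mul, hqdef]; ring
  · intro h
    have hp : Nat.Prime 2 := Nat.prime_two
    rcases (hp.dvd_mul).mp h with h | h
    · rcases (hp.dvd_mul).mp h with h | h
      · rcases (hp.dvd_mul).mp h with h | h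
        · have := sylF4_not_dvd_pow_sub_one hq hq0 1 (by norm_num)
          rw [pow_one] at this
          exact this h
        · exact sylF4_not_dvd_pow_add_one hq 3 (by norm_num) h
      · exact sylF4_not_dvd_pow_sub_one hq hq0 4 (by norm_num) h
    · exact sylF4_not_dvd_pow_add_one hq 6 (by norm_num) h

end Cfsg.Agent.Helper18.TwF4
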